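import Mathlib
import Cfsg.Agent.H747.RowTwo

/-!
# Self-normalizing Sylow 2-subgroups (helper769)

* `of_one` : one self-normalizing Sylow subgroup is enough;
* `of_cent` : from the centralizer of a 2-central involution with `Z(S) = ⟨z⟩` and a quotient modulo `⟨z⟩` with
  self-normalizing Sylow 2-subgroups;
* `of_equiv` : transport;
* `row` : the row `RowTwo` of S5161.
-/

set_option autoImplicit false

namespace Cfsg.Agent.H769.Self

open Subgroup Cfsg

variable {G : Type*} [Group G]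

/-- One Sylow subgroup is enough. -/
theorem of_one [Finite G] {p : ℕ} [Fact p.Prime] (T : Sylow p G)
    (h : normalizer ((T : Subgroup G) : Set G) ≤ T) (S : Sylow p G) :
    normalizer ((S : Subgroup G) : Set G) ≤ S := by
  obtain ⟨g, hg⟩ := MulAction.exists_smul_eq G T S
  have hS : (S : Subgroup G) = (T : Subgroup G).map (MulAut.conj g).toMonoidHom := by
    rw [← hg]; rfl
  have hmem : ∀ y : G, y ∈ (S : Subgroup G) ↔ g⁻¹ * y * g ∈ (T : Subgroup G) := by
    intro y
    rw [hS]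
    constructor
    · rintro ⟨u, hu, rfl⟩
      have e : g⁻¹ * (g * u * g⁻¹) * g = u := by group
      show g⁻¹ * (g * u * g⁻¹) * g ∈ _
      rw [e]; exact hu
    · intro h
      exact ⟨_, h, by show g * (g⁻¹ * y * g) * g⁻¹ = y; group⟩
  intro x hx
  rw [hmem]
  apply h
  rw [mem_normalizer_iff]
  intro y
  have h1 := mem_normalizer_iff.1 hx (g * y * g⁻¹)
  rw [hmem, hmem] at h1
  have e1 : g⁻¹ * (g * y * g⁻¹) * g = y := by group
  have e2 : g⁻¹ * (x * (g * y * g⁻¹) * x⁻¹) * g = g⁻¹ * x * g * y * (g⁻¹ * x * g)⁻¹ := by group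
  rwa [e1, e2] at h1

/-- `N(S) ≤ S` from `C(z)`, `Z(S) = ⟨z⟩`. -/
theorem of_cent [Finite G] {z : G} (hz1 : z ≠ 1) {S : Sylow 2 G} (hzS : z ∈ S)
    (hc : ∀ x ∈ S, x * z = z * x) (hu : ∀ y ∈ S, (∀ x ∈ S, x * y = y * x) → y = 1 ∨ y = z)
    {L : Type*} [Group L] (π : ↥(centralizer ({z} : Set G)) →* L) (hπ : Function.Surjective π)
    (hk : ∀ c : ↥(centralizer ({z} : Set G)), π c = 1 → (c : G) = 1 ∨ (c : G) = z)
    (hL : ∀ T : Sylow 2 L, normalizer ((T : Subgroup L) : Set L) ≤ T) (S' : Sylow 2 G) :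
    normalizer ((S' : Subgroup G) : Set G) ≤ S' := by
  have h2 : Fact (Nat.Prime 2) := ⟨Nat.prime_two⟩
  have hSC : (S : Subgroup G) ≤ centralizer ({z} : Set G) := by
    intro x hx
    rw [mem_centralizer_singleton_iff]
    exact hc x hx
  refine of_one S ?_ S'
  intro g hg
  have hgz : g * z * g⁻¹ = z := by
    have h1 : g * z * g⁻¹ ∈ (S : Subgroup G) := (mem_normalizer_iff.1 hg z).1 hzS
    have h3 : ∀ x ∈ S, x * (g * z * g⁻¹) = (g * z * g⁻¹) * x := by
      intro x hx
      have h4 : g⁻¹ * x * g ∈ (S : Subgroup G) := by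
        have := (mem_normalizer_iff.1 (inv_mem hg) x).1 hx
        simpa using this
      have h5 := hc _ h4
      calc x * (g * z * g⁻¹) = g * ((g⁻¹ * x * g) * z) * g⁻¹ := by group
        _ = g * (z * (g⁻¹ * x * g)) * g⁻¹ := by rw [h5]
        _ = (g * z * g⁻¹) * x := by group
    rcases hu _ h1 h3 with h | h
    · exfalso
      apply hz1
      have : z = g⁻¹ * (g * z * g⁻¹) * g := by group
      rw [this, h]
      group
    · exact h
  have hgC : g ∈ centralizer ({z} : Set G) := by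
    rw [mem_centralizer_singleton_iff]
    calc g * z = (g * z * g⁻¹) * g := by group
      _ = z * g := by rw [hgz]
  let T : Sylow 2 ↥(centralizer ({z} : Set G)) := S.subtype hSC
  let T' : Sylow 2 L := T.mapSurjective hπ
  have hT' : (T' : Subgroup L) = (T : Subgroup ↥(centralizer ({z} : Set G))).map π := rfl
  have h6 : π ⟨g, hgC⟩ ∈ normalizer ((T' : Subgroup L) : Set L) := by
    rw [hT', mem_normalizer_iff]
    intro y
    constructor
    · rintro ⟨x, hx, rfl⟩
      refine ⟨⟨g, hgC⟩ * x * ⟨g, hgC⟩⁻¹, ?_, by simp⟩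
      exact (mem_normalizer_iff.1 hg _).1 hx
    · rintro ⟨x, hx, hxy⟩
      refine ⟨⟨g, hgC⟩⁻¹ * x * ⟨g, hgC⟩, ?_, ?_⟩
      · have h7 := (mem_normalizer_iff.1 (inv_mem hg) (x : G)).1 hx
        rw [inv_inv] at h7
        exact h7
      · simp [hxy, mul_assoc]
  have h7 := hL T' h6
  rw [hT'] at h7
  obtain ⟨c, hcT, hcg⟩ := h7
  have h8 : π (c⁻¹ * ⟨g, hgC⟩) = 1 := by rw [map_mul, map_inv, hcg, inv_mul_cancel]
  have h10 : ((c⁻¹ * ⟨g, hgC⟩ : ↥(centralizer ({z} : Set G))) : G) ∈ (S : Subgroup G) := by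
    rcases hk _ h8 with h | h
    · rw [h]; exact one_mem _
    · rw [h]; exact hzS
  have h11 : (c : G) * ((c⁻¹ * ⟨g, hgC⟩ : ↥(centralizer ({z} : Set G))) : G) = g := by simp
  rw [← h11]
  exact mul_mem hcT h10

/-- transport -/
theorem of_equiv {H : Type*} [Group H] [Finite G] {p : ℕ} [Fact p.Prime] (e : G ≃* H)
    (h : ∀ T : Sylow p H, normalizer ((T : Subgroup H) : Set H) ≤ T) (S : Sylow p G) :
    normalizer ((S : Subgroup G) : Set G) ≤ S := by
  let T : Sylow p H := S.mapSurjective (f := e.toMonoidHom) e.surjective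
  have hT : (T : Subgroup H) = (S : Subgroup G).map e.toMonoidHom := rfl
  have hmem : ∀ x : G, x ∈ (S : Subgroup G) ↔ e x ∈ (T : Subgroup H) := by
    intro x
    rw [hT]
    constructor
    · intro hx
      exact ⟨x, hx, rfl⟩
    · rintro ⟨y, hy, hyx⟩
      have : y = x := e.injective hyx
      exact this ▸ hy
  intro x hx
  rw [hmem]
  apply h T
  rw [mem_normalizer_iff]
  intro y
  obtain ⟨y', rfl⟩ := e.surjective y
  have h1 := mem_normalizer_iff.1 hx y'
  rw [hmem, hmem, map_mul, map_mul, map_inv] at h1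
  exact h1

/-- the row of S5161 -/
theorem row [Finite G] (h : ∀ T : Sylow 2 G, normalizer ((T : Subgroup G) : Set G) ≤ T) : H747.RowTwo G := by
  have h2 : Fact (Nat.Prime 2) := ⟨Nat.prime_two⟩
  exact Or.inl (H747.OddRow.of_self default (h default))

end Cfsg.Agent.H769.Self
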