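import Cfsg.Agent.S0774
import Cfsg.Agent.LieClassical.SympCount
import Cfsg.Agent.H769.Self

/-!
# The Sylow 2-subgroups of `Sp₆(2)` are self-normalizing (from helper87's `UniqLoc/Final.lean`)
-/

set_option autoImplicit false

namespace Cfsg.Agent.H769.SpSix

open Subgroup Cfsg Matrix

/-- `Sp₆(2)` -/
abbrev Sp : Type := Matrix.symplecticGroup (Fin 3) (ZMod 2)

/-- column vectors -/
abbrev V : Type := Fin 3 ⊕ Fin 3 → ZMod 2

/-- the matrix -/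
abbrev mt (g : Sp) : Matrix (Fin 3 ⊕ Fin 3) (Fin 3 ⊕ Fin 3) (ZMod 2) := g.1

theorem mt_mul (g h : Sp) : mt (g * h) = mt g * mt h := rfl

theorem mt_one : mt 1 = 1 := rfl

/-- the flag -/
def Fl (k : ℕ) : Set V :=
  {v | (∀ i : Fin 3, k < (i : ℕ) → v (Sum.inl i) = 0) ∧ ∀ i : Fin 3, v (Sum.inr i) = 0}

instance instDecFl (k : ℕ) (v : V) : Decidable (v ∈ Fl k) :=
  inferInstanceAs (Decidable ((∀ i : Fin 3, k < (i : ℕ) → v (Sum.inl i) = 0) ∧ ∀ i : Fin 3, v (Sum.inr i) = 0))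

/-- the Borel subgroup -/
def B : Subgroup Sp := ⨅ k : Fin 3, Cfsg.stabilizing (Cfsg.spToMat 3 (ZMod 2)) {v : Fin 3 ⊕ Fin 3 → ZMod 2 |
  (∀ i : Fin 3, (k : ℕ) < (i : ℕ) → v (Sum.inl i) = 0) ∧ ∀ i : Fin 3, v (Sum.inr i) = 0}

theorem card_B : Nat.card B = 512 := by
  have h : Fintype.card (ZMod 2) = 2 := ZMod.card 2
  have := Cfsg.Agent.S0774.result h 3
  exact this.trans (by norm_num)

theorem card_Sp : Nat.card Sp = 1451520 := by
  rw [Cfsg.Agent.LieClassical.SympCount.card_symplecticGroup, ZMod.card]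
  simp [Finset.prod_range_succ]

theorem mem_B {h : Sp} : h ∈ B ↔ ∀ k : Fin 3, ∀ v : V, v ∈ Fl k ↔ mt h *ᵥ v ∈ Fl k := by
  rw [B, mem_iInf]
  exact Iff.rfl

/-- the three elements of the Borel subgroup -/
def s (j : Fin 3) : Matrix (Fin 3 ⊕ Fin 3) (Fin 3 ⊕ Fin 3) (ZMod 2) :=
  match j with
  | 0 => fromBlocks !![1, 1, 0; 0, 1, 0; 0, 0, 1] 0 0 !![1, 0, 0; 1, 1, 0; 0, 0, 1]
  | 1 => fromBlocks !![1, 0, 0; 0, 1, 1; 0, 0, 1] 0 0 !![1, 0, 0; 0, 1, 0; 0, 1, 1]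
  | 2 => fromBlocks 1 !![0, 0, 0; 0, 0, 0; 0, 0, 1] 0 1

theorem s_mem (j : Fin 3) : s j ∈ Matrix.symplecticGroup (Fin 3) (ZMod 2) := by
  rw [SymplecticGroup.mem_iff]
  revert j
  decide +kernel

theorem s_B (j : Fin 3) : (⟨s j, s_mem j⟩ : Sp) ∈ B := by
  rw [mem_B]
  revert j
  decide +kernel

theorem fix (v : V) (h : ∀ j, s j *ᵥ v = v) : v ∈ Fl 0 := by
  revert v
  decide +kernel

theorem fixOne (v : V) (h : ∀ j, s j *ᵥ v - v ∈ Fl 0) : v ∈ Fl 1 := by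
  revert v
  decide +kernel

theorem fixTwo (v : V) (h : ∀ j, s j *ᵥ v - v ∈ Fl 1) : v ∈ Fl 2 := by
  revert v
  decide +kernel

theorem diff_mem {v w : V} {k : ℕ} (hk : k < 2) (hv : v ∈ Fl (k + 1)) (hw : w ∈ Fl (k + 1)) (h1 : v ∉ Fl k)
    (h2 : w ∉ Fl k) : w - v ∈ Fl k := by
  have hcoord : ∀ u : V, u ∈ Fl (k + 1) → u ∉ Fl k → u (Sum.inl ⟨k + 1, by omega⟩) = 1 := by
    intro u hu hu'
    by_contra hne
    have h0 : u (Sum.inl ⟨k + 1, by omega⟩) = 0 := by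
      have : ∀ x : ZMod 2, x ≠ 1 → x = 0 := by decide
      exact this _ hne
    apply hu'
    refine ⟨fun i hi => ?_, hu.2⟩
    by_cases hik : (i : ℕ) = k + 1
    · have : i = ⟨k + 1, by omega⟩ := Fin.ext hik
      rw [this]; exact h0
    · exact hu.1 i (by omega)
  refine ⟨fun i hi => ?_, fun i => ?_⟩
  · by_cases hik : (i : ℕ) = k + 1
    · have : i = ⟨k + 1, by omega⟩ := Fin.ext hik
      rw [this, Pi.sub_apply, hcoord w hw h2, hcoord v hv h1, sub_self]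
    · rw [Pi.sub_apply, hw.1 i (by omega), hv.1 i (by omega), sub_self]
  · rw [Pi.sub_apply, hw.2 i, hv.2 i, sub_self]

theorem sub_mem' {v w : V} {k : ℕ} (hv : v ∈ Fl k) (hw : w ∈ Fl k) : w - v ∈ Fl k :=
  ⟨fun i hi => by rw [Pi.sub_apply, hw.1 i hi, hv.1 i hi, sub_self],
    fun i => by rw [Pi.sub_apply, hw.2 i, hv.2 i, sub_self]⟩

/-- the Borel subgroup is unipotent on the flag -/
theorem unip {h : Sp} (hh : h ∈ B) {k : ℕ} (hk : k < 2) {v : V} (hv : v ∈ Fl (k + 1)) :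
    mt h *ᵥ v - v ∈ Fl k := by
  rw [mem_B] at hh
  have h1 := hh ⟨k + 1, by omega⟩ v
  have h2 := hh ⟨k, by omega⟩ v
  simp only at h1 h2
  by_cases hvk : v ∈ Fl k
  · exact sub_mem' hvk (h2.1 hvk)
  · exact diff_mem hk hv (h1.1 hv) hvk fun h => hvk (h2.2 h)

theorem unip_zero {h : Sp} (hh : h ∈ B) {v : V} (hv : v ∈ Fl 0) : mt h *ᵥ v = v := by
  rw [mem_B] at hh
  have h1 := (hh 0 v).1 hv
  have h01 : ∀ u : V, u ∈ Fl 0 → u ≠ 0 → u = Pi.single (Sum.inl 0) 1 := by decide +kernel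
  have hinj : v ≠ 0 → mt h *ᵥ v ≠ 0 := by
    intro hv0 h0
    apply hv0
    have h2 : mt (h⁻¹ * h) *ᵥ v = 0 := by
      rw [mt_mul, ← Matrix.mulVec_mulVec, h0, Matrix.mulVec_zero]
    rwa [inv_mul_cancel, mt_one, Matrix.one_mulVec] at h2
  by_cases hv0 : v = 0
  · rw [hv0, Matrix.mulVec_zero]
  · rw [h01 _ h1 (hinj hv0), h01 v hv hv0]

theorem conj_B {g : Sp} (hg : g ∈ normalizer (B : Set Sp)) {h : Sp} (hh : h ∈ B) : g⁻¹ * h * g ∈ B := by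
  have := (mem_normalizer_iff.1 (inv_mem hg) h).1 hh
  simpa using this

theorem swap_eq (g h : Sp) (v : V) :
    mt h *ᵥ (mt g *ᵥ v) =
      mt g *ᵥ (mt (g⁻¹ * h * g) *ᵥ v) := by
  rw [Matrix.mulVec_mulVec, Matrix.mulVec_mulVec, ← mt_mul, ← mt_mul, show g * (g⁻¹ * h * g) = h * g by group]

theorem norm_zero {g : Sp} (hg : g ∈ normalizer (B : Set Sp)) {v : V} (hv : v ∈ Fl 0) :
    mt g *ᵥ v ∈ Fl 0 := by
  apply fix
  intro j
  have h := swap_eq g ⟨s j, s_mem j⟩ v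
  rw [unip_zero (conj_B hg (s_B j)) hv] at h
  exact h

theorem norm_step {g : Sp} (hg : g ∈ normalizer (B : Set Sp)) {k : ℕ} (hk : k < 2)
    (ih : ∀ v : V, v ∈ Fl k → mt g *ᵥ v ∈ Fl k)
    (hfix : ∀ v : V, (∀ j, s j *ᵥ v - v ∈ Fl k) → v ∈ Fl (k + 1)) {v : V} (hv : v ∈ Fl (k + 1)) :
    mt g *ᵥ v ∈ Fl (k + 1) := by
  apply hfix
  intro j
  have h := swap_eq g ⟨s j, s_mem j⟩ v
  change s j *ᵥ _ = _ at h
  rw [h, ← Matrix.mulVec_sub]
  exact ih _ (unip (conj_B hg (s_B j)) hk hv)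

theorem norm_mem {g : Sp} (hg : g ∈ normalizer (B : Set Sp)) (k : Fin 3) {v : V} (hv : v ∈ Fl k) :
    mt g *ᵥ v ∈ Fl k := by
  have h0 : ∀ v : V, v ∈ Fl 0 → mt g *ᵥ v ∈ Fl 0 := fun v hv => norm_zero hg hv
  have h1 : ∀ v : V, v ∈ Fl 1 → mt g *ᵥ v ∈ Fl 1 :=
    fun v hv => norm_step hg (k := 0) (by norm_num) h0 fixOne hv
  have h2 : ∀ v : V, v ∈ Fl 2 → mt g *ᵥ v ∈ Fl 2 :=
    fun v hv => norm_step hg (k := 1) (by norm_num) h1 fixTwo hv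
  fin_cases k
  · exact h0 v hv
  · exact h1 v hv
  · exact h2 v hv

theorem normalizer_B : normalizer (B : Set Sp) = B := by
  refine le_antisymm (fun g hg => ?_) le_normalizer
  rw [mem_B]
  intro k v
  refine ⟨fun hv => norm_mem hg k hv, fun hv => ?_⟩
  have h := norm_mem (inv_mem hg) k hv
  rwa [Matrix.mulVec_mulVec, ← mt_mul, inv_mul_cancel, mt_one, Matrix.one_mulVec] at h

/-- **The Sylow 2-subgroups of `Sp₆(2)` are self-normalizing.** -/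
theorem self (S : Sylow 2 Sp) : normalizer ((S : Subgroup Sp) : Set Sp) ≤ S := by
  have h2 : Fact (Nat.Prime 2) := ⟨Nat.prime_two⟩
  have : Finite Sp := Nat.finite_of_card_ne_zero (by rw [card_Sp]; norm_num)
  have hB : IsPGroup 2 B := IsPGroup.of_card (n := 9) (by rw [card_B]; norm_num)
  have hi : ¬ 2 ∣ B.index := by
    have h := B.card_mul_index
    rw [card_B, card_Sp] at h
    omega
  exact Self.of_one (hB.toSylow hi) normalizer_B.le S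

end Cfsg.Agent.H769.SpSix
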