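import Cfsg.Agent.H769.SpSix
import Cfsg.Agent.KFacts.Co3D4.Model
import Cfsg.Agent.KFacts.Co3.Syl
import Cfsg.Agent.SporRec.Co3.Model

/-!
# The Sylow 2-subgroups of `Co₃` are self-normalizing (helper769)

`C(Z) = 2·Sp₆(2)`, `Z(S) = ⟨Z⟩`.
-/

set_option autoImplicit false

namespace Cfsg.Agent.H769.RowCo3

open Subgroup Cfsg
open Cfsg.Agent.SporRec.Co3.Chain (G3 isCo3_G3)
open Cfsg.Agent.SporRec.Co3.Ident (Z)
open Cfsg.Agent.SporRec.Co3.Fusion (tC)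

theorem Z_ne : Z ≠ 1 := by
  obtain ⟨π, N⟩ := Cfsg.Agent.KFacts.Co3D4.exists_NS_G3
  intro h
  exact N.z_ne (Subtype.ext h)

theorem self_G3 (S : Sylow 2 G3) : normalizer ((S : Subgroup G3) : Set G3) ≤ S := by
  have hf : Finite G3 := Cfsg.Agent.KFacts.Co3.Syl.finite_G3
  obtain ⟨π, N⟩ := Cfsg.Agent.KFacts.Co3D4.exists_NS_G3
  obtain ⟨S₀, h1, h2, h3⟩ := Cfsg.Agent.KFacts.Co3.Syl.syl
  refine Self.of_cent Z_ne h1 h2 h3 π N.surj (fun c hc => ?_) SpSix.self S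
  rcases N.ker c hc with h | h
  · left; rw [h]; rfl
  · right; rw [h]; rfl

/-- **Self-normalizing Sylow 2-subgroups of `Co₃`.** -/
theorem self {X : Type*} [Group X] (h : Spor.IsoCo3 X) (S : Sylow 2 X) :
    normalizer ((S : Subgroup X) : Set X) ≤ S := by
  obtain ⟨e⟩ := h
  have e' : X ≃* G3 := e.trans Cfsg.Agent.SporRec.Co3.Model.equivCo3.symm
  have hf : Finite G3 := Cfsg.Agent.KFacts.Co3.Syl.finite_G3
  have hX : Finite X := Finite.of_equiv _ e'.symm.toEquiv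
  have h2 : Fact (Nat.Prime 2) := ⟨Nat.prime_two⟩
  exact Self.of_equiv e' self_G3 S

/-- **The row Co3 of S5161.** -/
theorem row_co3 {K : Type*} [Group K] [Finite K] [IsSimpleGroup K] (h : Cfsg.Spor.IsoCo3 K) :
    Cfsg.Agent.H747.RowTwo K :=
  Self.row (self h)

end Cfsg.Agent.H769.RowCo3
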