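import Cfsg.Agent.KFacts.ON.Estar
import Cfsg.Agent.KFacts.ON.OneClass
import Cfsg.Agent.H769.Self

/-!
# The Sylow 2-subgroups of the O'Nan group are self-normalizing (helper769)

`x ∈ N(S)` centralises `f` (`Z(S) = ⟨f⟩`) and normalises `J = C(v)`, so it normalises `E = ⟨f, a, s3⟩` (`Estar.aut_E`);
the action of `d` on `E` gives `x a x⁻¹ ∈ {a, af}`, and `C(f) ∩ C(a) = T0 ≤ S`.
-/

set_option autoImplicit false
set_option maxRecDepth 100000

namespace Cfsg.Agent.H769.RowON

open Subgroup Cfsg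
open Cfsg.Spor (ON)
open Cfsg.Agent.SporadicB.ON45Word (on)
open Cfsg.Agent.KFacts.MulSpor.ON (w w_append w_one w_cons w_iw iw eqw cj)
open Cfsg.Agent.KFacts.ON.Cent (hON finite_ON cen card_K0)
open Cfsg.Agent.KFacts.ON.Words Cfsg.Agent.KFacts.ON.Struct Cfsg.Agent.KFacts.ON.Qs Cfsg.Agent.KFacts.ON.Estar
open Cfsg.Agent.ONType
open Cfsg.Agent.ONType.TupK (K0)
open Cfsg.Agent.ONType.TupT0 (T0)

theorem d_s3 : on .d * s3 * (on .d)⁻¹ = on .a * s3 := by
  have h : w [.d] * w [.c, .d, .g, .c, .d, .g] * (w [.d])⁻¹ = w (.a :: [.c, .d, .g, .c, .d, .g]) :=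
    Cfsg.Agent.KFacts.ON.Words.conj _ _ _ (by decide +kernel)
  rw [wd, w_cons] at h
  exact h

/-- the elements of `S` map `a` into `{a, af}` -/
theorem S_a {t : ON} (ht : t ∈ TupS.S hs) : t * on .a * t⁻¹ = on .a ∨ t * on .a * t⁻¹ = on .a * on .f := by
  rcases ht with ht | ht
  · left
    rw [TupT0.comm_a hs ht, mul_inv_cancel_right]
  · right
    rw [s_eq] at ht
    have hss : s * s = 1 := by
      have := TupS.ss hs
      rwa [s_eq] at this
    have hsi : s⁻¹ = s := inv_eq_of_mul_eq_one_right hss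
    obtain ⟨y, hy⟩ : ∃ y, y = t * s := ⟨_, rfl⟩
    rw [← hy] at ht
    have ht' : t = y * s := by rw [hy, mul_assoc, hss, mul_one]
    have h1 := TupT0.comm_a hs ht
    have h2 := TupT0.comm_f hs ht
    calc t * on .a * t⁻¹ = y * (s * on .a * s⁻¹) * y⁻¹ := by rw [ht']; group
      _ = y * (on .a * on .f) * y⁻¹ := by rw [sa]
      _ = (y * on .a) * on .f * y⁻¹ := by group
      _ = on .a * (y * on .f) * y⁻¹ := by rw [h1]; group
      _ = _ := by rw [h2]; group

theorem norm_mem {x : ON} (hx : x ∈ normalizer ((TupS.S hs : Subgroup ON) : Set ON)) : x ∈ TupS.S hs := by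
  have hfin := finite_ON
  have hfS : on .f ∈ TupS.S hs := T0_le_S (TupT0.f_mem hs)
  -- `x` centralises `f`
  have hxf : x * on .f * x⁻¹ = on .f := by
    have h1 : x * on .f * x⁻¹ ∈ TupS.S hs := (mem_normalizer_iff.1 hx _).1 hfS
    have h2 : ∀ y ∈ TupS.S hs, y * (x * on .f * x⁻¹) = (x * on .f * x⁻¹) * y := by
      intro y hy
      have h3 : x⁻¹ * y * x ∈ TupS.S hs := by
        have := (mem_normalizer_iff.1 (inv_mem hx) y).1 hy
        rwa [inv_inv] at this
      have h4 := mem_K0.1 (TupS.S_le hs h3)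
      calc y * (x * on .f * x⁻¹) = x * ((x⁻¹ * y * x) * on .f) * x⁻¹ := by group
        _ = x * (on .f * (x⁻¹ * y * x)) * x⁻¹ := by rw [h4]
        _ = _ := by group
    rcases Cfsg.Agent.KFacts.ON.OneClass.center_S h1 h2 with h3 | h3
    · exfalso
      apply f_ne_one
      have e : on .f = x⁻¹ * (x * on .f * x⁻¹) * x := by group
      rw [e, h3]; group
    · exact h3
  have hxK : x ∈ K0 := by
    rw [mem_K0]
    calc x * on .f = (x * on .f * x⁻¹) * x := by group
      _ = _ := by rw [hxf]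
  have hxiK : x⁻¹ ∈ K0 := K0.inv_mem hxK
  -- `x` normalises `J`
  have hxJ : x ∈ normalizer ((J : Subgroup ON) : Set ON) := by
    rw [mem_normalizer_iff]
    intro y
    refine ⟨fun hy => J_normal hxK hy, fun hy => ?_⟩
    have := J_normal hxiK hy
    have e : x⁻¹ * (x * y * x⁻¹) * x⁻¹⁻¹ = y := by group
    rwa [e] at this
  obtain ⟨β, hβ⟩ : ∃ β : MulAut J, ∀ y : J, ((β y : J) : ON) = x * y * x⁻¹ :=
    ⟨normalizerMonoidHom J ⟨x, hxJ⟩, fun y => rfl⟩
  have hxaE : x * on .a * x⁻¹ ∈ E := by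
    have h1 := aut_E β (fun y => ?_) (e := ⟨on .a, aJ⟩) aE
    · rw [hβ] at h1
      exact h1
    · rw [hβ]
      constructor
      · rintro ⟨h1, h2⟩
        exact ⟨(mem_normalizer_iff.1 hx _).1 h1, (mem_normalizer_iff.1 hxJ _).1 h2⟩
      · rintro ⟨h1, h2⟩
        exact ⟨(mem_normalizer_iff.1 hx _).2 h1, (mem_normalizer_iff.1 hxJ _).2 h2⟩
  -- the action of `d`
  obtain ⟨y, hy⟩ : ∃ y, y = x * on .a * x⁻¹ := ⟨_, rfl⟩
  rw [← hy] at hxaE
  have hdy : on .d * y * (on .d)⁻¹ = y ∨ on .d * y * (on .d)⁻¹ = y * on .f := by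
    have h1 : x⁻¹ * on .d * x ∈ TupS.S hs := by
      have := (mem_normalizer_iff.1 (inv_mem hx) (on .d)).1 dS
      rwa [inv_inv] at this
    rcases S_a h1 with h2 | h2
    · left
      calc on .d * y * (on .d)⁻¹ = x * ((x⁻¹ * on .d * x) * on .a * (x⁻¹ * on .d * x)⁻¹) * x⁻¹ := by rw [hy]; group
        _ = _ := by rw [h2, hy]
    · right
      calc on .d * y * (on .d)⁻¹ = x * ((x⁻¹ * on .d * x) * on .a * (x⁻¹ * on .d * x)⁻¹) * x⁻¹ := by rw [hy]; group
        _ = x * (on .a * on .f) * x⁻¹ := by rw [h2]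
        _ = (x * on .a * x⁻¹) * (x * on .f * x⁻¹) := by group
        _ = _ := by rw [hxf, hy]
  have hda : on .d * on .a * (on .d)⁻¹ = on .a := ad_conj
  have hdf : on .d * on .f * (on .d)⁻¹ = on .f := f_conj d_mem
  have hbad : ∀ u : ON, on .d * u * (on .d)⁻¹ = on .a * u → u * on .a = on .a * u → u * u = 1 →
      (on .d * u * (on .d)⁻¹ = u ∨ on .d * u * (on .d)⁻¹ = u * on .f) → False := by
    intro u h1 h2 h3 h4
    rw [h1, ← h2] at h4
    rcases h4 with h5 | h5
    · have := mul_left_cancel (h5.trans (mul_one u).symm)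
      exact a_ne_one this
    · exact a_ne_f (mul_left_cancel h5)
  have hne1 : y ≠ 1 := by
    intro h
    apply a_ne_one
    have e : on .a = x⁻¹ * (x * on .a * x⁻¹) * x := by group
    rw [e, ← hy, h]; group
  have hnef : y ≠ on .f := by
    intro h
    apply a_ne_f
    have e : on .a = x⁻¹ * (x * on .a * x⁻¹) * x := by group
    rw [e, ← hy, h]
    have e2 : x⁻¹ * (x * on .f * x⁻¹) * x = on .f := by group
    rw [hxf] at e2
    exact e2
  have hcases : y = on .a ∨ y = on .a * on .f := by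
    have hEc : ∀ u ∈ E, u * on .a = on .a * u := fun u hu => E_comm hu aE
    rcases E_cases hxaE with h | h | h | h | h | h | h | h
    · exact absurd h hne1
    · exact absurd h hnef
    · exact Or.inl h
    · right; rw [h, faC.eq]
    · exfalso
      refine hbad y ?_ (hEc y hxaE) (E_sq hxaE) hdy
      rw [h]; exact d_s3
    · exfalso
      refine hbad y ?_ (hEc y hxaE) (E_sq hxaE) hdy
      rw [h]
      calc on .d * (on .f * s3) * (on .d)⁻¹ = (on .d * on .f * (on .d)⁻¹) * (on .d * s3 * (on .d)⁻¹) := by group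
        _ = on .f * (on .a * s3) := by rw [hdf, d_s3]
        _ = (on .f * on .a) * s3 := by group
        _ = (on .a * on .f) * s3 := by rw [faC.eq]
        _ = _ := by group
    · exfalso
      refine hbad y ?_ (hEc y hxaE) (E_sq hxaE) hdy
      rw [h]
      calc on .d * (on .a * s3) * (on .d)⁻¹ = (on .d * on .a * (on .d)⁻¹) * (on .d * s3 * (on .d)⁻¹) := by group
        _ = on .a * (on .a * s3) := by rw [hda, d_s3]
    · exfalso
      refine hbad y ?_ (hEc y hxaE) (E_sq hxaE) hdy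
      rw [h]
      calc on .d * (on .f * on .a * s3) * (on .d)⁻¹
          = (on .d * on .f * (on .d)⁻¹) * (on .d * on .a * (on .d)⁻¹) * (on .d * s3 * (on .d)⁻¹) := by group
        _ = on .f * on .a * (on .a * s3) := by rw [hdf, hda, d_s3]
        _ = (on .f * on .a) * on .a * s3 := by group
        _ = (on .a * on .f) * on .a * s3 := by rw [faC.eq]
        _ = on .a * (on .f * on .a * s3) := by group
  have hT : ∀ z ∈ K0, z * on .a * z⁻¹ = on .a → z ∈ T0 := by
    intro z hz h
    exact TupK.mem_T0 hs hz (by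
      calc z * on .a = (z * on .a * z⁻¹) * z := by group
        _ = _ := by rw [h])
  rcases hcases with h | h
  · exact T0_le_S (hT x hxK (by rw [← hy, h]))
  · have h1 : s * x ∈ T0 := by
      apply hT _ (K0.mul_mem (J_le sJ) hxK)
      calc s * x * on .a * (s * x)⁻¹ = s * (x * on .a * x⁻¹) * s⁻¹ := by group
        _ = s * (on .a * on .f) * s⁻¹ := by rw [← hy, h]
        _ = (s * on .a * s⁻¹) * (s * on .f * s⁻¹) := by group
        _ = on .a * on .f * on .f := by rw [sa, f_conj (J_le sJ)]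
        _ = on .a := by rw [mul_assoc, ff, mul_one]
    exact ((TupS.S hs).mul_mem_cancel_left sS).1 (T0_le_S h1)

/-- **The Sylow 2-subgroups of the O'Nan group are self-normalizing.** -/
theorem self_ON (S : Sylow 2 ON) : normalizer ((S : Subgroup ON) : Set ON) ≤ S := by
  have hfin := finite_ON
  have : Fact (Nat.Prime 2) := ⟨Nat.prime_two⟩
  obtain ⟨P, hP⟩ := Cfsg.Agent.KFacts.ON.OneClass.exists_sylow
  refine Self.of_one P (fun x hx => ?_) S
  rw [hP] at hx ⊢
  exact norm_mem hx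

theorem self {X : Type*} [Group X] (h : Spor.IsoON X) (S : Sylow 2 X) :
    normalizer ((S : Subgroup X) : Set X) ≤ S := by
  obtain ⟨e⟩ := h
  have hf := finite_ON
  have hX : Finite X := Finite.of_equiv _ e.symm.toEquiv
  have h2 : Fact (Nat.Prime 2) := ⟨Nat.prime_two⟩
  exact Self.of_equiv e self_ON S

/-- **The row ON of S5161.** -/
theorem row_on {K : Type*} [Group K] [Finite K] [IsSimpleGroup K] (h : Cfsg.Spor.IsoON K) :
    Cfsg.Agent.H747.RowTwo K :=
  Self.row (self h)

end Cfsg.Agent.H769.RowON
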