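import Cfsg.Agent.H771.NExt
import Cfsg.Agent.H747.Hyperfocal

/-!
# Focal subgroups: local to global (helper769)

* `nfoc F Y`: the subgroup generated by the `x⁻¹ φ(x)` with `φ` a map of the normalizer system of `Y`.
* `mu F`: the number of maps of `F` (between subgroups of the finite `S`), a measure for inductions.
* `focal_of_local`: the focal subgroup of `F` lies in `H` if this is so "locally".
-/

set_option autoImplicit false

namespace Cfsg.Agent.H769

open Cfsg Cfsg.FusionSystem Cfsg.Agent.H802 Cfsg.Agent.H771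

universe u

variable {Ω : Type u} [Group Ω] {S : Subgroup Ω}

/-- The focal subgroup of the normalizer system of `Y`. -/
def nfoc (F : FusionSystem S) (Y : Subgroup Ω) : Subgroup Ω :=
  Subgroup.closure {z : Ω | ∃ (P : Subgroup Ω) (φ : P →* Ω) (x : P), φ ∈ F.normalizerHom Y P ∧
    z = (x : Ω)⁻¹ * φ x}

theorem mem_nfoc {F : FusionSystem S} {Y P : Subgroup Ω} {φ : P →* Ω} (h : φ ∈ F.normalizerHom Y P)
    (x : P) : (x : Ω)⁻¹ * φ x ∈ nfoc F Y := Subgroup.subset_closure ⟨P, φ, x, h, rfl⟩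

theorem nfoc_le {F : FusionSystem S} {Y H : Subgroup Ω}
    (h : ∀ (P : Subgroup Ω) (φ : P →* Ω), φ ∈ F.normalizerHom Y P → ∀ x : P, (x : Ω)⁻¹ * φ x ∈ H) :
    nfoc F Y ≤ H := by
  refine (Subgroup.closure_le H).2 ?_
  rintro _ ⟨P, φ, x, hφ, rfl⟩
  exact h P φ hφ x

theorem focal_eq_nfoc {F : FusionSystem S} {Y : Subgroup Ω} {N : FusionSystem (normalizerIn S Y)}
    (hN : F.IsNormalizerSystem Y N) : N.focalSubgroup = nfoc F Y := by
  apply le_antisymm
  · refine Cfsg.Agent.H747.focal_le fun P φ hφ x => mem_nfoc ?_ x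
    rwa [← hN P]
  · refine nfoc_le fun P φ hφ x => Cfsg.Agent.H747.focal_mem ?_ x
    rwa [hN P]

theorem nfoc_le_focal (F : FusionSystem S) (Y : Subgroup Ω) : nfoc F Y ≤ F.focalSubgroup :=
  nfoc_le fun _ _ hφ x => Cfsg.Agent.H747.focal_mem hφ.1 x

theorem normalizerHom_mono {F F' : FusionSystem S} (h : ∀ P, F'.Hom P ⊆ F.Hom P) (Y P : Subgroup Ω) :
    F'.normalizerHom Y P ⊆ F.normalizerHom Y P := by
  rintro φ ⟨h1, h2, h3, ψ, hψ, h4, h5⟩
  exact ⟨h P h1, h2, h3, ψ, h _ hψ, h4, h5⟩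

theorem nfoc_mono {F F' : FusionSystem S} (h : ∀ P, F'.Hom P ⊆ F.Hom P) (Y : Subgroup Ω) :
    nfoc F' Y ≤ nfoc F Y :=
  nfoc_le fun _ _ hφ x => mem_nfoc (normalizerHom_mono h Y _ hφ) x

/-! ### The number of maps -/

/-- A code for the maps of a fusion system. -/
def code (F : FusionSystem S) : Set (Set S × (S → S)) :=
  {x | ∃ (P : Subgroup Ω) (φ : P →* Ω), φ ∈ F.Hom P ∧ x.1 = {s : S | (s : Ω) ∈ P} ∧
    ∀ (s : S) (hs : (s : Ω) ∈ P), ((x.2 s : S) : Ω) = φ ⟨s, hs⟩}

/-- The number of maps of a fusion system over a finite group. -/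
noncomputable def mu (F : FusionSystem S) : ℕ := (code F).ncard

theorem mu_lt [Finite S] {F F' : FusionSystem S} (h : ∀ P, F'.Hom P ⊆ F.Hom P) {P : Subgroup Ω}
    {φ : P →* Ω} (hφ : φ ∈ F.Hom P) (hφ' : φ ∉ F'.Hom P) : mu F' < mu F := by
  classical
  refine Set.ncard_lt_ncard ?_ (Set.toFinite _)
  refine ⟨?_, fun hle => ?_⟩
  · rintro x ⟨Q, ψ, hψ, h1, h2⟩
    exact ⟨Q, ψ, h Q hψ, h1, h2⟩
  · let f : S → S := fun s => if hs : (s : Ω) ∈ P then ⟨φ ⟨s, hs⟩, hom_apply_mem hφ _⟩ else 1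
    have hf : ∀ (s : S) (hs : (s : Ω) ∈ P), ((f s : S) : Ω) = φ ⟨s, hs⟩ := by
      intro s hs
      simp only [f, dif_pos hs]
    have hmem : (({s : S | (s : Ω) ∈ P}, f) : Set S × (S → S)) ∈ code F := ⟨P, φ, hφ, rfl, hf⟩
    obtain ⟨Q, ψ, hψ, h1, h2⟩ := hle hmem
    have hPQ : Q = P := by
      ext x
      constructor
      · intro hx
        have hxS : x ∈ S := hom_le hψ hx
        have : (⟨x, hxS⟩ : S) ∈ {s : S | (s : Ω) ∈ P} := by
          rw [show ({s : S | (s : Ω) ∈ P} : Set S) = {s : S | (s : Ω) ∈ Q} from h1]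
          exact hx
        exact this
      · intro hx
        have hxS : x ∈ S := hom_le hφ hx
        have : (⟨x, hxS⟩ : S) ∈ {s : S | (s : Ω) ∈ Q} := by
          rw [← show ({s : S | (s : Ω) ∈ P} : Set S) = {s : S | (s : Ω) ∈ Q} from h1]
          exact hx
        exact this
    refine hφ' (mem_of_eq_source hPQ hψ (fun x hx hx' => ?_))
    have hxS : x ∈ S := hom_le hψ hx
    rw [← h2 ⟨x, hxS⟩ hx, ← hf ⟨x, hxS⟩ hx']

/-! ### Local to global -/

/-- The subgroup generated by the `x⁻¹ ψ(x)`, for maps `ψ` of `F` between subgroups of `T` whose source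
contains `V` and which map `V` into itself. -/
def nfocIn (F : FusionSystem S) (V T : Subgroup Ω) : Subgroup Ω :=
  Subgroup.closure {z : Ω | ∃ (R : Subgroup Ω) (ψ : R →* Ω) (x : R), ψ ∈ F.Hom R ∧ R ≤ T ∧
    (∀ y : R, ψ y ∈ T) ∧ V ≤ R ∧ (∀ y : R, (y : Ω) ∈ V → ψ y ∈ V) ∧ z = (x : Ω)⁻¹ * ψ x}

/-- **Focal subgroups, local to global.** Suppose that to every fully normalized `Y ≠ 1` is attached a subgroup
`V ≠ 1` of `T = N_S(Y)`, normalized by `N_S(T)`, such that, if `T ≠ S`, the focal subgroup of the normalizer system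
of `Y` is generated by the `x⁻¹ ψ(x)` with `ψ` in `F` mapping `V` to `V`, and such that, if `T = S`, the focal
subgroup of the normalizer system of `Y` lies in `H`.  Then the focal subgroup of `F` lies in `H`. -/
theorem focal_of_local [Finite S] {p : ℕ} [Fact p.Prime] (hS : IsPGroup p S)
    {F : FusionSystem S} (hF : F.IsSaturated p) {H : Subgroup Ω}
    (h : ∀ Y : Subgroup Ω, Y ≠ ⊥ → F.IsFullyNormalized Y → ∃ V : Subgroup Ω, V ≠ ⊥ ∧
      V ≤ normalizerIn S Y ∧ normalizerIn S (normalizerIn S Y) ≤ Subgroup.normalizer (V : Set Ω) ∧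
      (normalizerIn S Y = S → ∀ (P : Subgroup Ω) (φ : P →* Ω), φ ∈ F.normalizerHom Y P →
        ∀ x : P, (x : Ω)⁻¹ * φ x ∈ H) ∧
      (normalizerIn S Y ≠ S → ∀ (P : Subgroup Ω) (φ : P →* Ω), φ ∈ F.normalizerHom Y P →
        ∀ x : P, (x : Ω)⁻¹ * φ x ∈ nfocIn F V (normalizerIn S Y))) :
    F.focalSubgroup ≤ H := by
  refine Cfsg.Agent.H747.focal_le ?_
  refine Cfsg.Agent.H759.saturated_induction F hS hF
    (fun P φ => ∀ x : P, (x : Ω)⁻¹ * φ x ∈ H) ?_ ?_ ?_ ?_
  · intro P R φ χ _ hM hR he x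
    rw [he x]
    exact hM ⟨x, hR x.2⟩
  · intro P R φ ψ χ _ _ hM hM' he x
    obtain ⟨h1, h2⟩ := he x
    rw [h2]
    have h3 : (x : Ω)⁻¹ * ψ ⟨φ x, h1⟩ = ((x : Ω)⁻¹ * φ x) * ((φ x)⁻¹ * ψ ⟨φ x, h1⟩) := by group
    rw [h3]
    exact H.mul_mem (hM x) (hM' ⟨φ x, h1⟩)
  · intro P R φ χ _ hM _ he y
    obtain ⟨x, h1, h2⟩ := he y
    rw [h2, ← h1]
    have h3 : (φ x)⁻¹ * (x : Ω) = ((x : Ω)⁻¹ * φ x)⁻¹ := by group
    rw [h3]
    exact H.inv_mem (hM x)
  · intro U hUa hUr IH α hα
    have hUS : U ≤ S := hUa.1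
    have hUf : Finite U := finite_of_le hUS
    set n := Nat.card U with hn
    have hUn : F.IsFullyNormalized U := isFullyNormalized_of_automized_receptive hS hUa hUr
    have hαF : U.subtype.comp α.toMonoidHom ∈ F.Hom U := (mem_autGroup_iff F hUS α).1 hα
    -- the inner induction
    have claim : ∀ k : ℕ, ∀ Y : Subgroup Ω, Y ≠ ⊥ → F.IsFullyNormalized Y →
        Nat.card S - Nat.card (normalizerIn S Y) = k →
        (normalizerIn S Y = S ∨ n < Nat.card (normalizerIn S Y)) →
        ∀ (R : Subgroup Ω) (φ : R →* Ω), φ ∈ F.normalizerHom Y R →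
          ∀ x : R, (x : Ω)⁻¹ * φ x ∈ H := by
      intro k
      induction k using Nat.strong_induction_on with
      | _ k ih =>
      intro Y hY hYn hk hT R₀ φ₀ hφ₀ x₀
      obtain ⟨V, hV1, hV2, hV3, hV4, hV5⟩ := h Y hY hYn
      set T := normalizerIn S Y with hTdef
      have hTS : T ≤ S := inf_le_left
      by_cases hTeq : T = S
      · exact hV4 hTeq R₀ φ₀ hφ₀ x₀
      · have hnT : n < Nat.card T := by
          rcases hT with h1 | h1
          · exact absurd h1 hTeq
          · exact h1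
        have hVS : V ≤ S := hV2.trans hTS
        have hfV : Finite V := finite_of_le hVS
        -- a fully normalized conjugate `V'` of `V`
        obtain ⟨V', hVV', hV'n⟩ := exists_isFullyNormalized hS hF hVS
        obtain ⟨χ₀, hχ₀, hχ₀r⟩ := hVV'
        obtain ⟨β, hβ, χ, hχ, hχe, hχN⟩ := exists_extension_normalizer hS hF hχ₀ hχ₀r hV'n
        have hNT : normalizerIn S T ≤ normalizerIn S V := fun x hx => ⟨hx.1, hV3 hx⟩
        have hTlt : Nat.card T < Nat.card (normalizerIn S T) := by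
          exact card_lt_card_normalizerIn hS hTS hTeq
        have hfNV : Finite (normalizerIn S V) := finite_of_le inf_le_left
        have hfNT : Finite (normalizerIn S T) := finite_of_le inf_le_left
        have hcNV : Nat.card T < Nat.card (normalizerIn S V) :=
          hTlt.trans_le (Subgroup.card_le_of_le hNT)
        have hTNV : T ≤ normalizerIn S V :=
          (Cfsg.Agent.H802.le_normalizerIn hTS).trans hNT
        have hχM := IH _ χ hχ (hnT.trans hcNV)
        have hVN : V ≤ normalizerIn S V := Cfsg.Agent.H802.le_normalizerIn hVS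
        have hχ₀m : ∀ x : V, χ₀ x ∈ V' := fun x => by rw [← hχ₀r]; exact ⟨x, rfl⟩
        have hχV : ∀ (y : Ω) (hy : y ∈ V), χ ⟨y, hVN hy⟩ ∈ V' := by
          intro y hy
          rw [hχe ⟨y, hy⟩ (hχ₀m _) (hVN hy)]
          exact (β _).2
        have hχV2 : ∀ z ∈ V', ∃ (y : Ω) (hy : y ∈ V), χ ⟨y, hVN hy⟩ = z := by
          intro z hz
          have hfV' : Finite V' := finite_of_le hV'n.1
          refine exists_preimage_of_card (F.injective_of_mem hχ) hVN hχV ?_ z hz
          exact (isConj_card_eq ⟨χ₀, hχ₀, hχ₀r⟩).ge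
        have hV'ne : V' ≠ ⊥ := by
          intro h1
          apply hV1
          rw [eq_bot_iff]
          intro y hy
          have h2 := hχV y hy
          rw [h1, Subgroup.mem_bot] at h2
          have h3 : χ ⟨y, hVN hy⟩ = χ 1 := by rw [h2, map_one]
          have h4 := congrArg Subtype.val (F.injective_of_mem hχ h3)
          exact h4
        have hcard' : Nat.card T < Nat.card (normalizerIn S V') := by
          refine hcNV.trans_le ?_
          have hfNV' : Finite (normalizerIn S V') := finite_of_le inf_le_left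
          exact card_le_of_maps (F.injective_of_mem hχ) le_rfl (fun x hx => hχN _)
        have hcardS : Nat.card (normalizerIn S V') ≤ Nat.card S :=
          Subgroup.card_le_of_le inf_le_left
        -- the inverse of `χ` on `χ(T)`
        obtain ⟨χi, hχi, hχir, hχi1, hχi2⟩ := exists_inv (F := F) (Q := χ.range) hχ rfl
        have hsub : nfocIn F V T ≤ H := by
          refine (Subgroup.closure_le H).2 ?_
          rintro _ ⟨R, φ, x, hφ, hRT, hφT, hVR, hφV, rfl⟩
          have hRS : R ≤ S := hRT.trans hTS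
          -- `R₁ = χ(R)`
          let R₁ : Subgroup Ω := (χ.comp (Subgroup.inclusion (hRT.trans hTNV))).range
          have hR₁ : R₁ ≤ χ.range := by
            rintro _ ⟨x, rfl⟩
            exact ⟨_, rfl⟩
          have hχiR : ∀ y : R₁, (χi.comp (Subgroup.inclusion hR₁)) y ∈ R := by
            rintro ⟨_, x, rfl⟩
            have h1 := hχi1 (Subgroup.inclusion (hRT.trans hTNV) x) ⟨_, rfl⟩
            have h2 : (χi.comp (Subgroup.inclusion hR₁)) ⟨_, x, rfl⟩ = x := h1
            rw [h2]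
            exact x.2
          obtain ⟨φa, hφa, hφae⟩ := exists_comp (restrict_mem hχi hR₁) hφ hχiR
          have hφaT : ∀ y : R₁, φa y ∈ normalizerIn S V := fun y => by
            rw [hφae]
            exact hTNV (hφT _)
          obtain ⟨φ₁, hφ₁, hφ₁e⟩ := exists_comp hφa hχ hφaT
          -- pointwise: `φ₁ (χ x) = χ (φ x)`
          have hφ₁x : ∀ (x : R) (hx : χ ⟨x, hTNV (hRT x.2)⟩ ∈ R₁),
              φ₁ ⟨χ ⟨x, hTNV (hRT x.2)⟩, hx⟩ = χ ⟨φ x, hTNV (hφT x)⟩ := by
            intro x hx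
            rw [hφ₁e]
            congr 1
            apply Subtype.ext
            show φa _ = φ x
            rw [hφae]
            congr 1
            apply Subtype.ext
            exact hχi1 ⟨x, hTNV (hRT x.2)⟩ _
          have hV'R₁ : V' ≤ R₁ := by
            intro z hz
            obtain ⟨y, hy, rfl⟩ := hχV2 z hz
            exact ⟨⟨y, hVR hy⟩, rfl⟩
          have hR₁S : R₁ ≤ S := hom_le hφ₁
          have hfR₁ : Finite R₁ := finite_of_le hR₁S
          have hfV' : Finite V' := finite_of_le hV'n.1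
          have hφ₁n : φ₁ ∈ F.normalizerHom V' R₁ := by
            rw [mem_normalizerHom_iff]
            refine ⟨?_, ?_, ?_⟩
            · rintro _ ⟨x, rfl⟩
              exact hχN _
            · intro y
              rw [hφ₁e]
              exact hχN _
            · have hle : R₁ ⊔ V' ≤ R₁ := sup_le le_rfl hV'R₁
              refine ⟨_, restrict_mem hφ₁ hle, fun x hx hx' => rfl, fun z hz hz' => ?_⟩
              obtain ⟨y, hy, rfl⟩ := hχV2 z hz
              have h1 := hφ₁x ⟨y, hVR hy⟩ ⟨⟨y, hVR hy⟩, rfl⟩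
              have h2 : (φ₁.comp (Subgroup.inclusion hle)) ⟨χ ⟨y, hVN hy⟩, hz'⟩ =
                χ ⟨φ ⟨y, hVR hy⟩, hTNV (hφT _)⟩ := h1
              rw [h2]
              exact hχV _ (hφV ⟨y, hVR hy⟩ hy)
          have hxR₁ : χ ⟨x, hTNV (hRT x.2)⟩ ∈ R₁ := ⟨x, rfl⟩
          have h1 := ih (Nat.card S - Nat.card (normalizerIn S V')) (by omega) V' hV'ne hV'n rfl
              (Or.inr (hnT.trans hcard')) R₁ φ₁ hφ₁n ⟨_, hxR₁⟩
          rw [hφ₁x x hxR₁] at h1
          -- `u = x⁻¹ φ x`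
          have huT : (x : Ω)⁻¹ * φ x ∈ T := T.mul_mem (T.inv_mem (hRT x.2)) (hφT x)
          have h2 := hχM ⟨(x : Ω)⁻¹ * φ x, hTNV huT⟩
          have h3 : χ ⟨(x : Ω)⁻¹ * φ x, hTNV huT⟩ =
              (χ ⟨x, hTNV (hRT x.2)⟩)⁻¹ * χ ⟨φ x, hTNV (hφT x)⟩ := by
            rw [← map_inv, ← map_mul]
            rfl
          have h4 : χ ⟨(x : Ω)⁻¹ * φ x, hTNV huT⟩ ∈ H := by
            rw [h3]
            exact h1
          have h5 : (x : Ω)⁻¹ * φ x = χ ⟨(x : Ω)⁻¹ * φ x, hTNV huT⟩ *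
              (((x : Ω)⁻¹ * φ x)⁻¹ * χ ⟨(x : Ω)⁻¹ * φ x, hTNV huT⟩)⁻¹ := by group
          rw [h5]
          exact H.mul_mem h4 (H.inv_mem h2)
        exact hsub (hV5 hTeq R₀ φ₀ hφ₀ x₀)
    intro x
    by_cases hU1 : U = ⊥
    · -- trivial source
      have hx1 : x = 1 := by
        apply Subtype.ext
        exact (Subgroup.eq_bot_iff_forall U).1 hU1 x x.2
      subst hx1
      rw [map_one]
      simp
    · refine claim _ U hU1 hUn rfl ?_ U _ ?_ x
      · by_cases hUS' : U = S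
        · left
          rw [hUS']
          exact inf_eq_left.2 Subgroup.le_normalizer
        · right
          exact card_lt_card_normalizerIn hS hUS hUS'
      · rw [mem_normalizerHom_iff]
        refine ⟨Cfsg.Agent.H802.le_normalizerIn hUS,
          fun x => Cfsg.Agent.H802.le_normalizerIn hUS (α x).2, ?_⟩
        have hle : U ⊔ U ≤ U := sup_le le_rfl le_rfl
        exact ⟨_, restrict_mem hαF hle, fun x hx hx' => rfl, fun y hy hy' => (α ⟨y, hy⟩).2⟩

end Cfsg.Agent.H769
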