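import Cfsg.Agent.H769.NsInd

/-!
# Elements of `C_S(T)` fixed by `Aut_E(J(T))` centralize `E`, `p` odd (helper769)
-/

set_option autoImplicit false

namespace Cfsg.Agent.H769

open Cfsg Cfsg.FusionSystem Cfsg.Agent.H752 Cfsg.Agent.PLocal.ThompsonJA

section basic

variable {Ω : Type*} [Group Ω] {S T : Subgroup Ω} {p : ℕ} {F : FusionSystem S} {E : FusionSystem T}

/-- The elements of `C_S(T)` fixed by the extensions of `Aut_E(J(T))`. -/
def XJ (F : FusionSystem S) (E : FusionSystem T) (x : Ω) : Prop :=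
  x ∈ centralizerIn S T ∧
    ∀ α ∈ E.autGroup (thompsonSubgroupAOf T), Fx F x (thompsonSubgroupAOf T) (H770.ac α)

theorem xj_map [Finite S] (hE : E.IsNormalIn F p) {a : Ω → Ω}
    (ha : Mp F (T ⊔ centralizerIn S T) a) {x : Ω} (hx : XJ F E x) : XJ F E (a x) := by
  have hinv : E.IsInvariantIn F := hE.1.2.2
  have hT : F.StronglyClosed T := hinv.2.1
  have hTS : T ≤ S := hT.1
  have hfinT : Finite T := H802.finite_of_le hTS
  have hTm : T ≤ T ⊔ centralizerIn S T := le_sup_left
  have hxm : x ∈ T ⊔ centralizerIn S T := (le_sup_right : centralizerIn S T ≤ _) hx.1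
  have haT : ∀ y ∈ T, a y ∈ T := fun y hy => mp_mem_of_stronglyClosed hT ha (hTm hy) hy
  have hIT : H770.Im a T T := H770.Mp.im_of_maps (ha.res hTm) haT
  refine ⟨⟨ha.mem hxm, H770.Mp.mem_centralizer ha hTm hIT hxm hx.1.2⟩, ?_⟩
  obtain ⟨J, hJ⟩ : ∃ J, J = thompsonSubgroupAOf T := ⟨_, rfl⟩
  have hx2 := hx.2
  rw [← hJ] at hx2 ⊢
  intro α hα
  have hJT : J ≤ T := by rw [hJ]; exact thompsonSubgroupAOf_le T
  have hfinJ : Finite J := H802.finite_of_le hJT
  have hIJ : H770.Im a J J := by rw [hJ]; exact im_thompson (ha.res hTm) hIT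
  obtain ⟨b, hb, hb1, hb2⟩ := (ha.res hTm).exists_symm le_rfl hIT
  have hbJ : ∀ y ∈ J, b y ∈ J := fun y hy => by
    obtain ⟨u, hu, rfl⟩ := (hIJ y).1 hy
    rw [hb1 u (hJT hu)]
    exact hu
  have hSI := H758.strongInvC_of_isInvariantIn hinv
  have hαm : Mp E J (H770.ac α) := H770.mp_ac hJT hα
  have hβ : Mp E J (fun y => b (H770.ac α (a y))) := by
    refine hSI J T J _ b _ hJT le_rfl hαm (fun y hy => hJT (H770.ac_mem α hy)) hb fun y hy => ?_
    exact ⟨a y, hIJ.apply hy, hb1 y (hJT hy), rfl⟩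
  obtain ⟨β, hβm, hβe⟩ := hβ.exists_aut fun y hy => hbJ _ (H770.ac_mem α (hIJ.apply hy))
  have hTx : T ⊔ Subgroup.zpowers x ≤ T ⊔ centralizerIn S T :=
    sup_le le_sup_left (by rw [Subgroup.zpowers_le]; exact hxm)
  refine Fx.transport (ha.res hTx) hJT (hx2 β hβm) (fun y hy => hJT (H770.ac_mem β hy))
    fun y hy => ⟨b y, hbJ y hy, (hb2 y (hJT hy)).2, ?_⟩
  rw [H770.ac_apply _ (hbJ y hy), ← hβe _ (hbJ y hy)]
  show _ = a (b (H770.ac α (a (b y))))
  rw [(hb2 y (hJT hy)).2, (hb2 _ (hJT (H770.ac_mem α hy))).2]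

/-- `P` is good. -/
def Gd (F : FusionSystem S) (E : FusionSystem T) (P : Subgroup Ω) : Prop :=
  ∀ α ∈ E.autGroup P, ∀ x, XJ F E x → Fx F x P (H770.ac α)

theorem restr_aut {J P : Subgroup Ω} [Finite J] (hJP : J ≤ P) {α : MulAut P} {β : MulAut J}
    (h : ∀ (y : Ω) (hy : y ∈ J), H770.ac α y = (β ⟨y, hy⟩ : J)) (n : ℕ) (y : J) :
    (((β ^ n) y : J) : Ω) = ((α ^ n) ⟨y, hJP y.2⟩ : P) := by
  induction n generalizing y with
  | zero => simp
  | succ n ih =>
    rw [pow_succ, MulAut.mul_apply, pow_succ, MulAut.mul_apply, ih]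
    congr 2
    apply Subtype.ext
    rw [← H770.ac_apply _ (hJP y.2)]
    exact (h y y.2).symm

end basic

section

universe u

variable {Ω : Type u} [Group Ω] {S T : Subgroup Ω} {p : ℕ} {F : FusionSystem S} {E : FusionSystem T}

/-- **First step**: `Y = J(Y)`. -/
theorem gd_one [Finite S] [Fact p.Prime] (hp : p ≠ 2) (hS : IsPGroup p S) (hE : E.IsNormalIn F p)
    {Y : Subgroup Ω} (hYc : E.IsCentric Y) (hYJ : thompsonSubgroupAOf Y = Y) {N : ℕ}
    (hN : Nat.card T ≤ N)
    (big : ∀ (R : Subgroup Ω) (f : Ω → Ω), Mp E R f → vW N Y < vW N R → ∀ x, XJ F E x → Fx F x R f) :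
    Gd F E Y := by
  have hF : F.IsSaturated p := hE.1.2.1
  have hEs : E.IsSaturated p := hE.1.1
  have hinv : E.IsInvariantIn F := hE.1.2.2
  have hT : F.StronglyClosed T := hinv.2.1
  have hTS : T ≤ S := hT.1
  have hfinT : Finite T := H802.finite_of_le hTS
  have hTp : IsPGroup p T := hS.to_le hTS
  have hYT : Y ≤ T := hYc.1
  have hYS : Y ≤ S := hYT.trans hTS
  have hfinY : Finite Y := H802.finite_of_le hYS
  obtain ⟨M, hM⟩ : ∃ M, M = normalizerIn T Y := ⟨_, rfl⟩
  have hMT : M ≤ T := by rw [hM]; exact inf_le_left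
  have hfinM : Finite M := H802.finite_of_le hMT
  have hMN : Nat.card M ≤ N := (Subgroup.card_le_of_le hMT).trans hN
  have hYM : Y ≤ M := by rw [hM]; exact H802.le_normalizerIn hYT
  rcases (vW_mono hYM hMN).eq_or_lt with hv | hv
  · have h1 : thompsonSubgroupAOf M = Y := by
      rw [← thompson_eq_of_vW_eq hYM hMN hv, hYJ]
    have h2 : M = T := by
      by_contra hne
      have h3 := H802.card_lt_card_normalizerIn hTp hMT hne
      have h4 : normalizerIn T M ≤ M := by
        intro y hy
        rw [hM]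
        refine ⟨hy.1, ?_⟩
        have h5 := normalizer_le_normalizer_thompsonSubgroupAOf M hy.2
        rwa [h1] at h5
      exact absurd (Subgroup.card_le_of_le h4) (not_le.2 h3)
    rw [h2] at h1
    intro α hα x hx
    have h5 := hx.2
    rw [h1] at h5
    exact h5 α hα
  · obtain ⟨P, hYP, hP⟩ := H802.exists_isFullyNormalized hS hF hYS
    obtain ⟨f, hf, hfI⟩ := H770.exists_mp_of_isConj hYP
    obtain ⟨k, hk, hkI⟩ := H770.mp_normalizer hS hF hP hf hfI
    have hMS : M ≤ normalizerIn S Y := by rw [hM]; exact inf_le_inf_right _ hTS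
    have hkM := hk.res hMS
    have hPT : P ≤ T := by
      intro y hy
      obtain ⟨u, hu, rfl⟩ := (hfI y).1 hy
      exact mp_mem_of_stronglyClosed hT hf hu (hYT hu)
    have hfinP : Finite P := H802.finite_of_le hPT
    have hPc : E.IsCentric P := by
      obtain ⟨φ, hφ, hφr⟩ := hYP
      exact H792.isCentric_map_of_invariant hinv hYc hφ hφr
    have hvP : vW N P = vW N Y := vW_of_im hf hfI
    obtain ⟨M', hM', hM'S, -⟩ := H770.Mp.exists_im hkM (le_refl M)
    have hM'N : M' ≤ normalizerIn T P := by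
      intro y hy
      obtain ⟨u, hu, rfl⟩ := (hM' y).1 hy
      refine ⟨mp_mem_of_stronglyClosed hT hkM hu (hMT hu), ?_⟩
      exact H770.Mp.mem_normalizer hk (H802.le_normalizerIn hYS) hkI (hMS hu) (hMS hu).2
    have hfinN : Finite (normalizerIn T P) := H802.finite_of_le inf_le_left
    have hNN : Nat.card (normalizerIn T P) ≤ N := (Subgroup.card_le_of_le inf_le_left).trans hN
    have hvN : vW N Y < vW N (normalizerIn T P) := by
      refine lt_of_lt_of_le hv ?_
      rw [← vW_of_im hkM hM']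
      exact vW_mono hM'N hNN
    have hPN : P ≤ normalizerIn T P := H802.le_normalizerIn hPT
    have hvQ : vW N (P ⊔ thompsonSubgroupAOf (normalizerIn T P)) = vW N (normalizerIn T P) :=
      vW_eq_of_between le_sup_right (sup_le hPN (thompsonSubgroupAOf_le _))
    have hGP : ∀ α ∈ E.autGroup P, ∀ x, XJ F E x → Fx F x P (H770.ac α) := by
      intro α hα x hx
      refine fx_of_thompson hp hS hE hP hPc hx.1 (fun g hg _ => ?_) α hα
      exact big _ g hg (by rw [hvQ]; exact hvN) x hx
    refine fx_transport hE (fun x hx => hx.1) (fun a ha x hx => xj_map hE ha hx) hYT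
      (ψ := k) (hk.res (inf_le_inf_right _ hTS)) hkI (fun g hg x hx => ?_) hGP
    exact big _ g hg (by rw [← hM]; exact hv) x hx

/-- **Second step**: `P` and `J(P)` fully normalized in `F`. -/
theorem gd_local [Finite S] [Fact p.Prime] (hp : p ≠ 2) (hS : IsPGroup p S) (hE : E.IsNormalIn F p)
    {P : Subgroup Ω} (hPc : E.IsCentric P) (hPn : F.IsFullyNormalized P)
    (hJn : F.IsFullyNormalized (thompsonSubgroupAOf P)) {N : ℕ}
    (hN : Nat.card T ≤ N)
    (big : ∀ (R : Subgroup Ω) (f : Ω → Ω), Mp E R f → wW N P < wW N R → ∀ x, XJ F E x → Fx F x R f) :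
    Gd F E P := by
  have hF : F.IsSaturated p := hE.1.2.1
  have hEs : E.IsSaturated p := hE.1.1
  have hinv : E.IsInvariantIn F := hE.1.2.2
  have hT : F.StronglyClosed T := hinv.2.1
  have hTS : T ≤ S := hT.1
  have hfinT : Finite T := H802.finite_of_le hTS
  have hTp : IsPGroup p T := hS.to_le hTS
  have hPT : P ≤ T := hPc.1
  have hPS : P ≤ S := hPT.trans hTS
  have hfinP : Finite P := H802.finite_of_le hPS
  have hPN : P ≤ normalizerIn T P := H802.le_normalizerIn hPT
  obtain ⟨J, hJ⟩ : ∃ J, J = thompsonSubgroupAOf P := ⟨_, rfl⟩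
  rw [← hJ] at hJn
  have hJP : J ≤ P := by rw [hJ]; exact thompsonSubgroupAOf_le P
  have hJT : J ≤ T := hJP.trans hPT
  have hfinJ : Finite J := H802.finite_of_le hJT
  have hcP : Nat.card P ≤ N := (Subgroup.card_le_of_le hPT).trans hN
  have hZJ : ∀ u ∈ P, (∀ y ∈ P, y * u = u * y) → u ∈ J := by
    intro u hu h
    rw [hJ]
    exact inf_centralizer_thompson_le P ⟨hu, Subgroup.mem_centralizer_iff.2 fun y hy =>
      h y (thompsonSubgroupAOf_le P hy)⟩
  have hJE : E.IsFullyNormalized J := H755.isFullyNormalized_sub hS hF hinv.1 hT hJT hJn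
  by_cases hJc : E.IsCentric J
  · -- `J(P)` is centric
    have hGJ : Gd F E J := by
      refine gd_one hp hS hE hJc (by rw [hJ]; exact thompson_thompson P) hN fun R f hf hv => ?_
      refine big R f hf (wW_lt_of_vW_lt hcP ?_)
      rwa [hJ, vW_thompson] at hv
    intro α₀ hα₀ x hx
    have hxT := hx.1
    have hxN : x ∈ centralizerIn S (normalizerIn T P) := centralizerIn_mono inf_le_left hxT
    have hxP : x ∈ centralizerIn S P := centralizerIn_mono hPT hxT
    have hxJ : x ∈ centralizerIn S J := centralizerIn_mono hJT hxT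
    obtain ⟨z, hz, hzN, hfix₀⟩ := exists_fix hS hE hPn hPc hxN
    have hxz : x * z ∈ P ⊔ centralizerIn S P :=
      mul_mem ((le_sup_right : centralizerIn S P ≤ _) hxP) ((le_sup_left : P ≤ _) hz)
    have hfix : ∀ α ∈ E.autGroup P, Fx F (x * z) P (H770.ac α) := by
      intro α hα
      obtain ⟨g, hg, h1, h2, -⟩ := hfix₀ α hα
      refine ⟨g, hg.res (sup_le le_sup_left (by rw [Subgroup.zpowers_le]; exact hxz)),
        fun y hy => by rw [h1 y hy, H770.ac_apply _ hy], h2⟩
    have hzJ : z ∈ J := hZJ z hz fun y hy => hzN y (hPN hy)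
    have hPE : E.IsFullyNormalized P := H755.isFullyNormalized_sub hS hF hinv.1 hT hPT hPn
    have hPEa := H802.isFullyAutomized_of_isFullyNormalized hTp hEs hPE
    obtain ⟨R, hR⟩ := hPEa.2
    have hfinMP : Finite (MulAut P) := H758.finite_mulAut P
    let M : Subgroup (E.autGroup P) :=
      { carrier := {a | H770.ac (a : MulAut P) z = z}
        one_mem' := H770.ac_one hz
        mul_mem' := by
          intro a b ha hb
          have h1 : H770.ac (b : MulAut P) z = z := hb
          have h2 : H770.ac (a : MulAut P) z = z := ha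
          show H770.ac ((a : MulAut P) * (b : MulAut P)) z = z
          rw [H770.ac_mul _ _ hz, h1, h2]
        inv_mem' := by
          intro a ha
          have h2 : H770.ac (a : MulAut P) z = z := ha
          have h3 := H770.ac_inv_ac (a : MulAut P) hz
          rw [h2] at h3
          exact h3 }
    have hMtop : M = ⊤ := by
      refine H792.gen_top_of_sylow R M (fun a ha => ?_) (fun a ha => ?_)
      · obtain ⟨α, hα⟩ : ∃ α : MulAut P, α = (a : MulAut P) := ⟨_, rfl⟩
        have hαE : α ∈ E.autGroup P := by rw [hα]; exact a.2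
        have hcop : Nat.Coprime (orderOf α) p := by
          rw [hα, Subgroup.orderOf_coe]
          exact ha
        show H770.ac (a : MulAut P) z = z
        rw [← hα]
        have hαm : Mp E P (H770.ac α) := H770.mp_ac hPT hαE
        have hαJ : ∀ y ∈ J, H770.ac α y ∈ J := by
          rw [hJ]
          exact fun y hy => im_thompson_le hαm (H770.im_ac α) y hy
        obtain ⟨β, hβ, hαβ⟩ := (hαm.res hJP).exists_aut hαJ
        have hord : orderOf β ∣ orderOf α := by
          rw [orderOf_dvd_iff_pow_eq_one]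
          ext y
          rw [restr_aut hJP hαβ, pow_orderOf_eq_one]
          rfl
        have hcopβ : Nat.Coprime (orderOf β) p := Nat.Coprime.coprime_dvd_left hord hcop
        have h1 : Fx F x J (H770.ac β) := hGJ β hβ x hx
        have h2 : Fx F (x * z) J (H770.ac β) :=
          ((hfix α hαE).res hJP).congr fun y hy => by rw [H770.ac_apply _ hy, hαβ y hy]
        have h3 := fix_of_two hS hE hJc hxJ hzJ hβ hcopβ h1 h2
        rw [hαβ z hzJ, ← H770.ac_apply _ hzJ]
        exact h3
      · have ha' : a ∈ (R : Subgroup (E.autGroup P)) := ha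
        rw [hR] at ha'
        obtain ⟨t, ht, h1⟩ := (H802.mem_autInducedBy_iff T P _).1 ha'
        show H770.ac (a : MulAut P) z = z
        have h2 : (((a : MulAut P) ⟨z, hz⟩ : P) : Ω) = t * z * t⁻¹ := h1 ⟨z, hz⟩
        rw [H770.ac_apply _ hz, h2, hzN t ⟨ht, H802.mem_normalizer_of_aut h1⟩]
        group
    have h1 : (⟨α₀, hα₀⟩ : E.autGroup P) ∈ M := by rw [hMtop]; trivial
    exact fx_of_fix hz h1 (hfix α₀ hα₀)
  · -- `J(P)` is not centric
    have hJr := H802.isReceptive_of_isFullyNormalized hTp hEs hJE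
    obtain ⟨Z, hZ⟩ : ∃ Z : Subgroup Ω, Z = P ⊓ Subgroup.centralizer (P : Set Ω) := ⟨_, rfl⟩
    obtain ⟨Q₁, hQ₁⟩ : ∃ Q₁, Q₁ = normalizerIn T P ⊓ Subgroup.centralizer (Z : Set Ω) := ⟨_, rfl⟩
    have hPQ : P ≤ Q₁ := by
      rw [hQ₁]
      refine le_inf hPN fun y hy => Subgroup.mem_centralizer_iff.2 fun u hu => ?_
      rw [hZ] at hu
      exact (Subgroup.mem_centralizer_iff.1 hu.2 y hy).symm
    have hQN : Q₁ ≤ normalizerIn T P := by rw [hQ₁]; exact inf_le_left
    have hQT : Q₁ ≤ T := hQN.trans inf_le_left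
    have hfinQ : Finite Q₁ := H802.finite_of_le hQT
    have hne : P ≠ Q₁ := by
      intro heq
      apply hJc
      refine H802.isCentric_of_isFullyCentralized
        (H802.isFullyCentralized_of_isReceptive hJr) ?_
      -- `C = C_T(J)`
      obtain ⟨C, hC⟩ : ∃ C, C = centralizerIn T J := ⟨_, rfl⟩
      have hCP : C ≤ P := by
        by_contra hCP
        obtain ⟨K, hK⟩ : ∃ K, K = P ⊔ C := ⟨_, rfl⟩
        have hKT : K ≤ T := by rw [hK, hC]; exact sup_le hPT inf_le_left
        have hfinK : Finite K := H802.finite_of_le hKT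
        have hPK : P ≤ K := by rw [hK]; exact le_sup_left
        have hPK' : P ≠ K := by
          intro h
          apply hCP
          rw [h, hK]
          exact le_sup_right
        have h1 := H802.card_lt_card_normalizerIn (hTp.to_le hKT) hPK hPK'
        obtain ⟨g, hg, hgP⟩ : ∃ g ∈ normalizerIn K P, g ∉ P := by
          by_contra hcon
          push Not at hcon
          exact absurd (Subgroup.card_le_of_le hcon) (not_le.2 h1)
        have hPJn : P ≤ Subgroup.normalizer (J : Set Ω) := by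
          rw [hJ]
          exact Subgroup.le_normalizer.trans (normalizer_le_normalizer_thompsonSubgroupAOf P)
        have hPCn : P ≤ Subgroup.normalizer (C : Set Ω) := by
          intro y hy
          have hfinC : Finite C := by rw [hC]; exact H802.finite_of_le inf_le_left
          refine H802.mem_normalizer_of_conj_mem (le_refl C) fun c hc => ?_
          rw [hC] at hc ⊢
          refine ⟨mul_mem (mul_mem (hPT hy) hc.1) (T.inv_mem (hPT hy)),
            Subgroup.mem_centralizer_iff.2 fun u hu => ?_⟩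
          have h2 : y⁻¹ * u * y ∈ J := by
            have := (Subgroup.mem_normalizer_iff.1 (Subgroup.inv_mem _ (hPJn hy)) u).1 hu
            rwa [inv_inv] at this
          have h3 := Subgroup.mem_centralizer_iff.1 hc.2 _ h2
          calc u * (y * c * y⁻¹) = y * ((y⁻¹ * u * y) * c) * y⁻¹ := by group
            _ = y * (c * (y⁻¹ * u * y)) * y⁻¹ := by rw [h3]
            _ = y * c * y⁻¹ * u := by group
        have hgK : g ∈ P ⊔ C := by rw [← hK]; exact hg.1
        obtain ⟨y, hy, c, hc, hyc⟩ := (H759.mem_sup_of_normalizes hPCn).1 hgK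
        have hc' : c = y⁻¹ * g := by rw [← hyc]; group
        have hcn : c ∈ Subgroup.normalizer (P : Set Ω) := by
          rw [hc']
          exact Subgroup.mul_mem _ (Subgroup.inv_mem _ (Subgroup.le_normalizer hy)) hg.2
        have hc2 := hc
        rw [hC] at hc2
        have hcQ : c ∈ Q₁ := by
          rw [hQ₁]
          refine ⟨⟨hc2.1, hcn⟩, Subgroup.mem_centralizer_iff.2 fun u hu => ?_⟩
          have hu' : u ∈ Z := hu
          rw [hZ] at hu'
          have huJ : u ∈ J := hZJ u hu'.1 fun w hw => Subgroup.mem_centralizer_iff.1 hu'.2 w hw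
          exact Subgroup.mem_centralizer_iff.1 hc2.2 u huJ
        rw [← heq] at hcQ
        apply hgP
        rw [← hyc]
        exact mul_mem hy hcQ
      rw [← hC]
      intro c hc
      have hc2 := hc
      rw [hC] at hc2
      rw [hJ]
      refine inf_centralizer_thompson_le P ⟨hCP hc, ?_⟩
      rw [← hJ]
      exact hc2.2
    have hlt : P < Q₁ := lt_of_le_of_ne hPQ hne
    have hw : wW N P < wW N Q₁ := wW_lt hlt ((Subgroup.card_le_of_le hQT).trans hN)
    intro α hα x hx
    refine fx_of_central hS hE hPn hPc hx.1 (fun g hg _ => ?_) α hα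
    rw [← hZ, ← hQ₁] at hg ⊢
    exact big Q₁ g hg hw x hx

end

end Cfsg.Agent.H769
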