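import Cfsg.Agent.S0557

/-!
# Group theory for the centralizer of a normal subsystem (helper769)

`exists_of_derivation`: a derivation into an abelian `p`-group vanishing on a Sylow `p`-subgroup is inner.
`exists_normal_of_split`: a central subgroup `K` which is split in the Sylow subgroup `B K` by a strongly closed
subgroup `B` has a normal supplement `N` with `N ∩ B K = B`.
-/

set_option autoImplicit false

namespace Cfsg.Agent.H769

open Subgroup
open scoped commutatorElement

/-- A derivation vanishing on a subgroup whose index is prime to the exponent is inner. -/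
theorem exists_of_derivation {A W : Type*} [Group A] [Finite A] [Group W] [MulDistribMulAction A W]
    (V : Subgroup W) (hVc : ∀ x ∈ V, ∀ y ∈ V, x * y = y * x)
    (hVinv : ∀ (a : A), ∀ x ∈ V, a • x ∈ V)
    (D : A → W) (hDV : ∀ a, D a ∈ V) (hD : ∀ a b, D (a * b) = D a * a • D b)
    (B : Subgroup A) (hB : ∀ b ∈ B, D b = 1) (n : ℕ) (hn : Nat.Coprime B.index n)
    (hVn : ∀ x ∈ V, x ^ n = 1) : ∃ v ∈ V, ∀ a, D a * a • v = v := by
  classical
  let _ : CommGroup V := { (inferInstance : Group V) with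
    mul_comm := fun x y => Subtype.ext (hVc x x.2 y y.2) }
  have hfin : Finite (A ⧸ B) := inferInstance
  let _ : Fintype (A ⧸ B) := Fintype.ofFinite _
  -- the action on `V`
  let act : A → V →* V := fun a =>
    { toFun := fun v => ⟨a • (v : W), hVinv a v v.2⟩
      map_one' := Subtype.ext (smul_one a)
      map_mul' := fun x y => Subtype.ext (smul_mul' a (x : W) (y : W)) }
  -- the derivation on the cosets
  let d : A ⧸ B → V := fun q => Quotient.liftOn' q (fun a => (⟨D a, hDV a⟩ : V)) (by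
    intro a b hab
    have h1 : a⁻¹ * b ∈ B := QuotientGroup.leftRel_apply.1 hab
    apply Subtype.ext
    show D a = D b
    have h2 : b = a * (a⁻¹ * b) := by group
    rw [h2, hD, hB _ h1, smul_one, mul_one])
  have hd : ∀ a : A, d (a : A ⧸ B) = ⟨D a, hDV a⟩ := fun a => rfl
  let v : V := ∏ q : A ⧸ B, d q
  have hv : ∀ a : A, v = (⟨D a, hDV a⟩ : V) ^ B.index * act a v := by
    intro a
    have h1 : ∀ q : A ⧸ B, d (a • q) = (⟨D a, hDV a⟩ : V) * act a (d q) := by
      intro q
      induction q using QuotientGroup.induction_on with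
      | H b =>
        show d ((a * b : A) : A ⧸ B) = _
        rw [hd, hd]
        exact Subtype.ext (hD a b)
    calc v = ∏ q : A ⧸ B, d (a • q) := by
          exact (Fintype.prod_equiv (MulAction.toPerm a) (fun q => d (a • q)) d (fun q => rfl)).symm
      _ = ∏ q : A ⧸ B, ((⟨D a, hDV a⟩ : V) * act a (d q)) := Finset.prod_congr rfl fun q _ => h1 q
      _ = (⟨D a, hDV a⟩ : V) ^ B.index * act a v := by
          rw [Finset.prod_mul_distrib, Finset.prod_const, map_prod, Finset.card_univ,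
            ← Nat.card_eq_fintype_card]
          rfl
  obtain ⟨k, hk⟩ : ∃ k : ℕ, B.index * k ≡ 1 [MOD n] := by
    rcases Nat.eq_zero_or_pos n with h0 | h0
    · rw [h0, Nat.coprime_zero_right] at hn
      exact ⟨1, by rw [hn]⟩
    · rcases Nat.lt_or_ge 1 n with h1 | h1
      · obtain ⟨k, -, hk⟩ := Nat.exists_mul_mod_eq_one_of_coprime hn h1
        exact ⟨k, by rw [Nat.ModEq, hk, Nat.mod_eq_of_lt h1]⟩
      · have : n = 1 := le_antisymm h1 h0
        exact ⟨0, by rw [this]; exact Nat.modEq_one⟩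
  refine ⟨((v ^ k : V) : W), (v ^ k).2, fun a => ?_⟩
  have h1 : v ^ k = ((⟨D a, hDV a⟩ : V) ^ B.index) ^ k * act a (v ^ k) := by
    conv_lhs => rw [hv a]
    rw [mul_pow, map_pow]
  have h2 : ((⟨D a, hDV a⟩ : V) ^ B.index) ^ k = ⟨D a, hDV a⟩ := by
    rw [← pow_mul]
    conv_rhs => rw [← pow_one (⟨D a, hDV a⟩ : V)]
    refine pow_eq_pow_iff_modEq.2 (hk.of_dvd (orderOf_dvd_of_pow_eq_one ?_))
    exact Subtype.ext (hVn _ (hDV a))
  rw [h2] at h1
  exact (congrArg Subtype.val h1).symm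

/-- A central subgroup which splits in a Sylow subgroup: there is a normal subgroup `N` with `N K = A` meeting the
Sylow subgroup `R = B K` in `B`. -/
theorem exists_normal_of_split {A : Type*} [Group A] [Finite A] {p : ℕ} [Fact p.Prime] (R : Sylow p A)
    (B K : Subgroup A) (hBR : B ≤ R) (hBK : ∀ r ∈ (R : Subgroup A), ∃ b ∈ B, ∃ k ∈ K, r = b * k)
    (hK : ∀ k ∈ K, ∀ a : A, a * k = k * a)
    (hB : ∀ b ∈ B, ∀ a : A, a * b * a⁻¹ ∈ (R : Subgroup A) → a * b * a⁻¹ ∈ B) :
    ∃ N : Subgroup A, B ≤ N ∧ N ⊓ R ≤ B ∧ N ⊔ K = ⊤ ∧ ¬ p ∣ B.relIndex N := by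
  obtain ⟨M, hM, hMR, hMR'⟩ := Cfsg.Agent.S0557.exists_normal_inf_eq_focalSubgroup (R : Subgroup A)
    R.card_coprime_index
  have hfoc : focalSubgroup (R : Subgroup A) ≤ B := by
    rw [focalSubgroup_def, closure_le]
    rintro g ⟨hg, x, hx, u, rfl⟩
    obtain ⟨b, hb, k, hk, rfl⟩ := hBK x hx
    have h1 : ⁅b * k, u⁆ = b * (u * b⁻¹ * u⁻¹) := by
      rw [commutatorElement_def]
      have h2 := hK k⁻¹ (K.inv_mem hk) u
      calc b * k * u * (b * k)⁻¹ * u⁻¹ = b * k * (u * k⁻¹) * b⁻¹ * u⁻¹ := by group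
        _ = b * k * (k⁻¹ * u) * b⁻¹ * u⁻¹ := by rw [h2]
        _ = b * (u * b⁻¹ * u⁻¹) := by group
    rw [h1] at hg ⊢
    have h3 : u * b⁻¹ * u⁻¹ ∈ (R : Subgroup A) := by
      have := (R : Subgroup A).mul_mem ((R : Subgroup A).inv_mem (hBR hb)) hg
      rwa [inv_mul_cancel_left] at this
    exact mul_mem hb (hB _ (B.inv_mem hb) u h3)
  have hMB : M ⊓ R ≤ B := by rw [hMR]; exact hfoc
  have hNR : (M ⊔ B) ⊓ R ≤ B := by
    rintro x ⟨hx, hxR⟩
    obtain ⟨m, hm, b, hb, rfl⟩ := mem_sup_of_normal_left.1 hx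
    have h1 : m ∈ (R : Subgroup A) := by
      have := (R : Subgroup A).mul_mem hxR ((R : Subgroup A).inv_mem (hBR hb))
      rwa [mul_inv_cancel_right] at this
    exact mul_mem (hMB ⟨hm, h1⟩) hb
  have htop : M ⊔ B ⊔ K = ⊤ := by
    rw [eq_top_iff, ← hMR']
    refine sup_le (le_sup_left.trans le_sup_left) fun r hr => ?_
    obtain ⟨b, hb, k, hk, rfl⟩ := hBK r hr
    exact mul_mem ((le_sup_left : M ⊔ B ≤ _) ((le_sup_right : B ≤ M ⊔ B) hb))
      ((le_sup_right : K ≤ _) hk)
  have hNn : (M ⊔ B).Normal := by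
    rw [← normalizer_eq_top_iff, eq_top_iff, ← htop]
    refine sup_le le_normalizer fun k hk => ?_
    rw [mem_normalizer_iff]
    intro h
    have h1 : k * h * k⁻¹ = h := by
      rw [← hK k hk h]
      group
    rw [h1]
  refine ⟨M ⊔ B, le_sup_right, hNR, htop, ?_⟩
  have hinf : B = (M ⊔ B) ⊓ R := le_antisymm (le_inf le_sup_right hBR) hNR
  have h1 : B.relIndex (M ⊔ B) * (M ⊔ B).index = B.index := relIndex_mul_index le_sup_right
  have h2 : B.relIndex (R : Subgroup A) * (R : Subgroup A).index = B.index := relIndex_mul_index hBR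
  have h3 : B.relIndex (R : Subgroup A) = (M ⊔ B).index := by
    conv_lhs => rw [hinf]
    rw [inf_relIndex_right, ← relIndex_sup_right]
    have h4 : (R : Subgroup A) ⊔ (M ⊔ B) = ⊤ := by
      rw [eq_top_iff, ← hMR']
      exact sup_le (le_sup_left.trans le_sup_right) le_sup_left
    rw [h4, relIndex_top_right]
  have h5 : B.relIndex (M ⊔ B) = (R : Subgroup A).index := by
    have h6 : (M ⊔ B).index ≠ 0 := index_ne_zero_of_finite
    apply Nat.eq_of_mul_eq_mul_left (Nat.pos_of_ne_zero h6)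
    rw [mul_comm, h1, ← h2, h3]
  rw [h5]
  exact R.not_dvd_index

end Cfsg.Agent.H769
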