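import Cfsg.Agent.H769.NsTriv
import Cfsg.Agent.H792.CentFinal
import Cfsg.Agent.H793.FixHom

/-!
# The automorphisms of centric subgroups of a normal subsystem are liftable (helper769)

`E` normal in the saturated system `F`, over `T`. For an `E`-centric subgroup `P` all elements of `Aut_E(P)` are
liftable: for `P` fully normalized in `F` they extend to maps of `F` on `P C_S(P)` trivial modulo `P`.
-/

set_option autoImplicit false

namespace Cfsg.Agent.H769

open Cfsg Cfsg.FusionSystem Cfsg.Agent.H752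

variable {Ω : Type*} [Group Ω] {S T : Subgroup Ω} {F : FusionSystem S} {E : FusionSystem T} {p : ℕ}

theorem centralizerIn_mono {P N : Subgroup Ω} (h : P ≤ N) : centralizerIn S N ≤ centralizerIn S P :=
  inf_le_inf_left S (Subgroup.centralizer_le h)

theorem conj_mem_centralizerIn {N : Subgroup Ω} {c x : Ω} (hc : c ∈ S)
    (hcN : c ∈ Subgroup.normalizer (N : Set Ω)) (hx : x ∈ centralizerIn S N) :
    c * x * c⁻¹ ∈ centralizerIn S N := by
  refine ⟨S.mul_mem (S.mul_mem hc hx.1) (S.inv_mem hc),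
    Subgroup.mem_centralizer_iff.2 fun y hy => ?_⟩
  have h1 : c⁻¹ * y * c ∈ N := by
    have := (Subgroup.mem_normalizer_iff.1 (inv_mem hcN) y).1 hy
    rwa [inv_inv] at this
  have h2 := Subgroup.mem_centralizer_iff.1 hx.2 _ h1
  calc y * (c * x * c⁻¹) = c * ((c⁻¹ * y * c) * x) * c⁻¹ := by group
    _ = c * (x * (c⁻¹ * y * c)) * c⁻¹ := by rw [h2]
    _ = c * x * c⁻¹ * y := by group

/-- Conjugation by an element `c ∈ S` normalizing `N` maps `N C_S(N)` to itself. -/
theorem conj_mem_sup_centralizerIn {N : Subgroup Ω} {c x : Ω} (hc : c ∈ S)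
    (hcN : c ∈ Subgroup.normalizer (N : Set Ω)) (hx : x ∈ N ⊔ centralizerIn S N) :
    c * x * c⁻¹ ∈ N ⊔ centralizerIn S N := by
  have h1 : N ⊔ centralizerIn S N ≤ (N ⊔ centralizerIn S N).comap (MulAut.conj c).toMonoidHom := by
    refine sup_le (fun y hy => ?_) (fun y hy => ?_)
    · exact (le_sup_left : N ≤ _) ((Subgroup.mem_normalizer_iff.1 hcN y).1 hy)
    · exact (le_sup_right : centralizerIn S N ≤ _) (conj_mem_centralizerIn hc hcN hy)
  exact h1 hx

theorem mem_normalizer_normalizerIn {P : Subgroup Ω} {c : Ω}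
    (hT : c ∈ Subgroup.normalizer (T : Set Ω)) (hc : c ∈ Subgroup.normalizer (P : Set Ω)) :
    c ∈ Subgroup.normalizer ((normalizerIn T P : Subgroup Ω) : Set Ω) := by
  have hn : c ∈ Subgroup.normalizer ((Subgroup.normalizer (P : Set Ω) : Subgroup Ω) : Set Ω) :=
    Subgroup.le_normalizer hc
  rw [Subgroup.mem_normalizer_iff] at hT hn ⊢
  intro x
  exact and_congr (hT x) (hn x)

theorem mem_normalizer_of_stronglyClosed [Finite S] (hT : F.StronglyClosed T) {c : Ω} (hc : c ∈ S) :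
    c ∈ Subgroup.normalizer (T : Set Ω) :=
  H802.mem_normalizer_of_conj_mem hT.1 fun _ hx =>
    mp_mem_of_stronglyClosed hT (mp_conj F hT.1 hc) hx hx

/-- The key computation: the extension condition for the elements of `C_S(P)`. -/
theorem conj_cond [Finite S] [Fact p.Prime] (hS : IsPGroup p S)
    (hE : E.IsNormalIn F p) {P : Subgroup Ω} (hPn : F.IsFullyNormalized P)
    (hNc : F.IsFullyCentralized (normalizerIn T P)) (hPc : E.IsCentric P) {f : Ω → Ω}
    (hf : Mp F (normalizerIn T P ⊔ centralizerIn S (normalizerIn T P)) f)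
    (hfE : Mp E (normalizerIn T P) f) (hfN : ∀ x ∈ normalizerIn T P, f x ∈ normalizerIn T P)
    (hfP : ∀ x ∈ P, f x ∈ P)
    (hft : ∀ x ∈ centralizerIn S (normalizerIn T P), x⁻¹ * f x ∈ normalizerIn T P)
    {c : Ω} (hc : c ∈ centralizerIn S P) :
    ∃ t ∈ P, t ∈ centralizerIn S P ∧ ∃ s ∈ centralizerIn S (normalizerIn T P),
      ∀ x ∈ normalizerIn T P ⊔ centralizerIn S (normalizerIn T P),
        f (c * x * c⁻¹) = (t * s * c) * f x * (t * s * c)⁻¹ := by
  have hF : F.IsSaturated p := hE.1.2.1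
  have hEs : E.IsSaturated p := hE.1.1
  have hinv : E.IsInvariantIn F := hE.1.2.2
  have hEF : E.IsSubsystemOf F := hinv.1
  have hT : F.StronglyClosed T := hinv.2.1
  have hTS : T ≤ S := hT.1
  have hfinT : Finite T := H802.finite_of_le hTS
  have hTp : IsPGroup p T := hS.to_le hTS
  have hsi : StrongInvC E F := H758.strongInvC_of_isInvariantIn hinv
  have hPT : P ≤ T := hPc.1
  have hPS : P ≤ S := hPT.trans hTS
  have hTC : H756.TC F T P := (H756.isCentric_iff_tc hinv).1 hPc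
  obtain ⟨N, hN⟩ : ∃ N, N = normalizerIn T P := ⟨_, rfl⟩
  rw [← hN] at hNc hf hfE hfN hft ⊢
  have hPN : P ≤ N := by rw [hN]; exact H802.le_normalizerIn hPT
  have hNT : N ≤ T := by rw [hN]; exact inf_le_left
  have hNS : N ≤ S := hNT.trans hTS
  have hNm : N ≤ N ⊔ centralizerIn S N := le_sup_left
  have hCm : centralizerIn S N ≤ N ⊔ centralizerIn S N := le_sup_right
  have hWS : N ⊔ centralizerIn S N ≤ S := sup_le hNS inf_le_left
  have hfinW : Finite ↥(N ⊔ centralizerIn S N) := H802.finite_of_le hWS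
  have hfinN : Finite N := H802.finite_of_le hNS
  have hfinP : Finite P := H802.finite_of_le hPS
  have hcS : c ∈ S := hc.1
  have hcP : c ∈ Subgroup.normalizer (P : Set Ω) := Subgroup.centralizer_le_normalizer _ hc.2
  have hcN : c ∈ Subgroup.normalizer (N : Set Ω) := by
    rw [hN]
    exact mem_normalizer_normalizerIn (mem_normalizer_of_stronglyClosed hT hcS) hcP
  have hciN : c⁻¹ ∈ Subgroup.normalizer (N : Set Ω) := inv_mem hcN
  have hciS : c⁻¹ ∈ S := inv_mem hcS
  -- `f` maps `W` to itself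
  have hfC : ∀ x ∈ centralizerIn S N, f x ∈ centralizerIn S N := by
    intro x hx
    have hIm : H770.Im f N N := H770.Mp.im_of_maps (hf.res hNm) hfN
    exact ⟨hf.mem (hCm hx), H770.Mp.mem_centralizer hf hNm hIm (hCm hx) hx.2⟩
  have hfW : ∀ x ∈ N ⊔ centralizerIn S N, f x ∈ N ⊔ centralizerIn S N :=
    H754.mp_sup_mem hf (fun x hx => hNm (hfN x hx)) (fun x hx => hCm (hfC x hx))
  -- the inverse of `f`
  have hImW : H770.Im f (N ⊔ centralizerIn S N) (N ⊔ centralizerIn S N) := H770.Mp.im_of_maps hf hfW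
  obtain ⟨μ, hμ, hμ1, hμ2⟩ := hf.exists_symm le_rfl hImW
  have hImN : H770.Im f N N := H770.Mp.im_of_maps (hf.res hNm) hfN
  have hμN : ∀ x ∈ N, μ x ∈ N := by
    intro x hx
    obtain ⟨y, hy, rfl⟩ := (hImN x).1 hx
    rw [hμ1 y (hNm hy)]
    exact hy
  have hImP : H770.Im f P P := H770.Mp.im_of_maps (hf.res (hPN.trans hNm)) hfP
  have hμP : ∀ x ∈ P, μ x ∈ P := by
    intro x hx
    obtain ⟨y, hy, rfl⟩ := (hImP x).1 hx
    rw [hμ1 y (hNm (hPN hy))]
    exact hy
  have hμE : Mp E N μ := hfE.symm fun y hy => by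
    obtain ⟨x, hx, rfl⟩ := (hImN y).1 hy
    exact ⟨x, hx, rfl, hμ1 x (hNm hx)⟩
  have hμC : ∀ x ∈ centralizerIn S N, μ x ∈ centralizerIn S N := by
    intro x hx
    have hImC : H770.Im f (centralizerIn S N) (centralizerIn S N) := by
      have hfinC : Finite (centralizerIn S N) := H802.finite_of_le inf_le_left
      exact H770.Mp.im_of_maps (hf.res hCm) hfC
    obtain ⟨y, hy, rfl⟩ := (hImC x).1 hx
    rw [hμ1 y (hCm hy)]
    exact hy
  have hμt : ∀ x ∈ centralizerIn S N, x⁻¹ * μ x ∈ N := by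
    intro x hx
    have h1 := hft _ (hμC x hx)
    rw [(hμ2 x (hCm hx)).2] at h1
    have h2 := inv_mem h1
    have h3 : ((μ x)⁻¹ * x)⁻¹ = x⁻¹ * μ x := by group
    rwa [h3] at h2
  -- the map `k`
  obtain ⟨k, hk⟩ : ∃ k : Ω → Ω, k = fun x => f (c * μ (c⁻¹ * x * c) * c⁻¹) := ⟨_, rfl⟩
  have hcW : ∀ x ∈ N ⊔ centralizerIn S N, c * x * c⁻¹ ∈ N ⊔ centralizerIn S N :=
    fun x hx => conj_mem_sup_centralizerIn hcS hcN hx
  have hciW : ∀ x ∈ N ⊔ centralizerIn S N, c⁻¹ * x * c ∈ N ⊔ centralizerIn S N := fun x hx => by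
    have := conj_mem_sup_centralizerIn hciS hciN hx
    rwa [inv_inv] at this
  have hciNm : ∀ x ∈ N, c⁻¹ * x * c ∈ N := fun x hx => by
    have := (Subgroup.mem_normalizer_iff.1 hciN x).1 hx
    rwa [inv_inv] at this
  have hcNm : ∀ x ∈ N, c * x * c⁻¹ ∈ N := fun x hx => (Subgroup.mem_normalizer_iff.1 hcN x).1 hx
  have hconj_ci : Mp F (N ⊔ centralizerIn S N) (fun x => c⁻¹ * x * c) :=
    (mp_conj F hWS hciS).congr fun x _ => by rw [inv_inv]
  have hkF : Mp F (N ⊔ centralizerIn S N) k := by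
    rw [hk]
    exact ((hconj_ci.comp hμ hciW).comp (mp_conj F hWS hcS)
      (fun x hx => (hμ2 _ (hciW x hx)).1)).comp hf (fun x hx => hcW _ (hμ2 _ (hciW x hx)).1)
  have hkE : Mp E N k := by
    have h1 : Mp E N (fun x => c * μ (c⁻¹ * x * c) * c⁻¹) := by
      refine hsi N N N μ (fun x => c * x * c⁻¹) _ le_rfl hNT hμE hμN (mp_conj F hNS hcS)
        fun y hy => ⟨c⁻¹ * y * c, hciNm y hy, by group, ?_⟩
      rfl
    have h2 := h1.comp hfE (fun x hx => hcNm _ (hμN _ (hciNm x hx)))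
    rw [hk]
    exact h2
  have hcx : ∀ x ∈ P, c⁻¹ * x * c = x := by
    intro x hx
    have h1 := Subgroup.mem_centralizer_iff.1 hc.2 x hx
    rw [mul_assoc, h1]
    group
  have hcx' : ∀ x ∈ P, c * x * c⁻¹ = x := by
    intro x hx
    have h1 := Subgroup.mem_centralizer_iff.1 hc.2 x hx
    rw [← h1]
    group
  have hkP : ∀ x ∈ P, k x = x := by
    intro x hx
    rw [hk]
    show f (c * μ (c⁻¹ * x * c) * c⁻¹) = x
    rw [hcx x hx, hcx' _ (hμP x hx)]
    exact (hμ2 x (hNm (hPN hx))).2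
  have hTCE : H756.TC E T P := ⟨hTC.1, fun g hg => hTC.2 g (mp_mono hEF hg)⟩
  have hPE : E.IsFullyNormalized P := H755.isFullyNormalized_sub hS hF hEF hT hPT hPn
  obtain ⟨t, htT, ht⟩ := H756.exists_conj_of_fix hTp hEs
    (stronglyClosed_of_mp le_rfl fun P f hf _ x hx => hf.mem hx) hTCE hPE (hN ▸ hkE) hkP
  have htC : ∀ x ∈ P, x * t = t * x := by
    intro x hx
    have h1 := ht x (hN ▸ hPN hx)
    rw [hkP x hx] at h1
    calc x * t = t * x * t⁻¹ * t := by rw [← h1]
      _ = t * x := by group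
  have htP : t ∈ P := hTC.self hTS htT htC
  have htPC : t ∈ centralizerIn S P := ⟨hTS htT, Subgroup.mem_centralizer_iff.2 htC⟩
  -- `k' = t⁻¹ k t`
  have htS : t ∈ S := hTS htT
  have hk' : Mp F (N ⊔ centralizerIn S N) (fun x => t⁻¹ * k x * t) := by
    have hkW : ∀ x ∈ N ⊔ centralizerIn S N, k x ∈ S := fun x hx => hkF.mem hx
    refine (hkF.comp (mp_conj F (le_refl S) (inv_mem htS)) hkW).congr fun x _ => ?_
    rw [inv_inv]
  have hkC : ∀ x ∈ centralizerIn S N, x⁻¹ * k x ∈ N := by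
    intro x hx
    have hd : c⁻¹ * x * c ∈ centralizerIn S N := by
      have := conj_mem_centralizerIn hciS hciN hx
      rwa [inv_inv] at this
    have h1 := hμt _ hd
    have h2 := hcNm _ h1
    -- `c μ(d) c⁻¹ = x n`
    have h3 : c * μ (c⁻¹ * x * c) * c⁻¹ = x * (c * ((c⁻¹ * x * c)⁻¹ * μ (c⁻¹ * x * c)) * c⁻¹) := by
      group
    rw [hk]
    show x⁻¹ * f (c * μ (c⁻¹ * x * c) * c⁻¹) ∈ N
    rw [h3, hf.mul (hCm hx) (hNm h2), ← mul_assoc]
    exact mul_mem (hft x hx) (hfN _ h2)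
  obtain ⟨s, hs, hs1⟩ := conj_of_triv hS hF hNc hk'
    (fun x hx => by
      have h1 := ht x (hN ▸ hx)
      show t⁻¹ * k x * t = x
      rw [h1]
      group)
    (fun x hx => by
      have htx : t * x = x * t := Subgroup.mem_centralizer_iff.1 hx.2 t (hPN htP)
      have h1 : x⁻¹ * (t⁻¹ * k x * t) = t⁻¹ * (x⁻¹ * k x) * t := by
        have h2 : x⁻¹ * t⁻¹ = t⁻¹ * x⁻¹ := by rw [← mul_inv_rev, ← mul_inv_rev, htx]
        calc x⁻¹ * (t⁻¹ * k x * t) = (x⁻¹ * t⁻¹) * k x * t := by group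
          _ = (t⁻¹ * x⁻¹) * k x * t := by rw [h2]
          _ = t⁻¹ * (x⁻¹ * k x) * t := by group
      show x⁻¹ * (t⁻¹ * k x * t) ∈ N
      rw [h1]
      exact mul_mem (mul_mem (inv_mem (hPN htP)) (hkC x hx)) (hPN htP))
  refine ⟨t, htP, htPC, s, hs, fun x hx => ?_⟩
  have hz : c * f x * c⁻¹ ∈ N ⊔ centralizerIn S N := hcW _ (hfW x hx)
  have h1 : t⁻¹ * k (c * f x * c⁻¹) * t = s * (c * f x * c⁻¹) * s⁻¹ := hs1 _ hz
  have h2 : k (c * f x * c⁻¹) = f (c * x * c⁻¹) := by
    rw [hk]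
    show f (c * μ (c⁻¹ * (c * f x * c⁻¹) * c) * c⁻¹) = _
    have h3 : c⁻¹ * (c * f x * c⁻¹) * c = f x := by group
    rw [h3, hμ1 x hx]
  rw [← h2]
  calc k (c * f x * c⁻¹) = t * (t⁻¹ * k (c * f x * c⁻¹) * t) * t⁻¹ := by group
    _ = t * (s * (c * f x * c⁻¹) * s⁻¹) * t⁻¹ := by rw [h1]
    _ = (t * s * c) * f x * (t * s * c)⁻¹ := by group

/-- `Lifts` in terms of functions. -/
theorem lifts_of_mp {P : Subgroup Ω} {α : MulAut P} {g : Ω → Ω}
    (hg : Mp F (P ⊔ centralizerIn S P) g) (h1 : ∀ (x : Ω) (hx : x ∈ P), g x = (α ⟨x, hx⟩ : P))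
    (h2 : ∀ c ∈ centralizerIn S P, c⁻¹ * g c ∈ P) : H792.Lifts F P α := by
  obtain ⟨φ, hφ, he⟩ := hg
  have hCn : centralizerIn S P ≤ Subgroup.normalizer (P : Set Ω) :=
    inf_le_right.trans (Subgroup.centralizer_le_normalizer _)
  refine ⟨φ, hφ, fun x hx => (he x hx).trans (h1 x x.2), H792.triv_of_gen hCn
    (fun x hx hx' => ?_) (fun x hx hx' => ?_)⟩
  · rw [he, h1 x hx]
    exact (α _).2
  · rw [he]
    exact h2 x hx

theorem mp_of_lifts {P : Subgroup Ω} {α : MulAut P} (h : H792.Lifts F P α) :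
    ∃ g, Mp F (P ⊔ centralizerIn S P) g ∧ (∀ (x : Ω) (hx : x ∈ P), g x = (α ⟨x, hx⟩ : P)) ∧
      ∀ x ∈ P ⊔ centralizerIn S P, x⁻¹ * g x ∈ P := by
  obtain ⟨φ, hφ, h1, h2⟩ := h
  refine ⟨ex φ, mp_ex hφ, fun x hx => ?_, fun x hx => ?_⟩
  · rw [ex_apply _ ((le_sup_left : P ≤ _) hx)]
    exact h1 ⟨x, hx⟩ _
  · rw [ex_apply _ hx]
    exact h2 ⟨x, hx⟩

/-- The core step: elements of order prime to `p` normalizing `Aut_T(P)`. -/
theorem lifts_core2 [Finite S] [Fact p.Prime] (hS : IsPGroup p S)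
    (hE : E.IsNormalIn F p) {P : Subgroup Ω} (hPn : F.IsFullyNormalized P)
    (hNn : F.IsFullyNormalized (normalizerIn T P)) (hPc : E.IsCentric P)
    (hIH : ∀ α ∈ E.autGroup (normalizerIn T P), H792.Lifts F (normalizerIn T P) α)
    {α : MulAut P} (hα : α ∈ E.autGroup P) (hcop : Nat.Coprime (orderOf α) p)
    (hnorm : ∀ δ ∈ autInducedBy T P, α * δ * α⁻¹ ∈ autInducedBy T P) : H792.Lifts F P α := by
  have hF : F.IsSaturated p := hE.1.2.1
  have hEs : E.IsSaturated p := hE.1.1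
  have hinv : E.IsInvariantIn F := hE.1.2.2
  have hEF : E.IsSubsystemOf F := hinv.1
  have hT : F.StronglyClosed T := hinv.2.1
  have hTS : T ≤ S := hT.1
  have hfinT : Finite T := H802.finite_of_le hTS
  have hTp : IsPGroup p T := hS.to_le hTS
  have hPT : P ≤ T := hPc.1
  have hPS : P ≤ S := hPT.trans hTS
  have hTC : H756.TC F T P := (H756.isCentric_iff_tc hinv).1 hPc
  have hNc := H802.isFullyCentralized_of_isFullyNormalized hS hF hNn
  have hPE : E.IsFullyNormalized P := H755.isFullyNormalized_sub hS hF hEF hT hPT hPn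
  have hPEr := H802.isReceptive_of_isFullyNormalized hTp hEs hPE
  have hfinP : Finite P := H802.finite_of_le hPS
  have hPN : P ≤ normalizerIn T P := H802.le_normalizerIn hPT
  have hNT : normalizerIn T P ≤ T := inf_le_left
  have hNS : normalizerIn T P ≤ S := hNT.trans hTS
  have hfinN : Finite (normalizerIn T P) := H802.finite_of_le hNS
  have hWS : normalizerIn T P ⊔ centralizerIn S (normalizerIn T P) ≤ S := sup_le hNS inf_le_left
  have hfinW : Finite ↥(normalizerIn T P ⊔ centralizerIn S (normalizerIn T P)) :=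
    H802.finite_of_le hWS
  have hNm : normalizerIn T P ≤ normalizerIn T P ⊔ centralizerIn S (normalizerIn T P) := le_sup_left
  have hCm : centralizerIn S (normalizerIn T P) ≤
      normalizerIn T P ⊔ centralizerIn S (normalizerIn T P) := le_sup_right
  -- `α` as a function
  have hαm : Mp E P (H770.ac α) := (mp_iff_autGroup hPT α).1 hα
  have hαpp : H758.PP p P (H770.ac α) := H758.pp_of_aut (fun x hx => H770.ac_apply α hx) hcop
  -- extension to `N_T(P)`
  obtain ⟨ψ, hψ, hψe⟩ := H802.exists_extension_of_normalizes hPEr hα hnorm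
  have hψm : Mp E (normalizerIn T P) (ex ψ) := mp_ex hψ
  have hψP : ∀ x ∈ P, ex ψ x = H770.ac α x := fun x hx => by
    rw [ex_apply _ (hPN hx), hψe x hx, H770.ac_apply α hx]
  have hψI : H770.Im (ex ψ) P P := (H770.im_ac α).congr hψP
  have hψN : ∀ x ∈ normalizerIn T P, ex ψ x ∈ normalizerIn T P := fun x hx =>
    ⟨hψm.mem hx, H770.Mp.mem_normalizer hψm hPN hψI hx hx.2⟩
  obtain ⟨m, hm1, hm2, hm3⟩ := H758.exists_iter_pp (p := p) hψm hψN
  obtain ⟨f₁, hf₁⟩ : ∃ f₁, f₁ = (ex ψ)^[m] := ⟨_, rfl⟩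
  rw [← hf₁] at hm1 hm2 hm3
  have hf₁P : ∀ x ∈ P, f₁ x = H770.ac α x := fun x hx => hm3 P _ hPN hαpp hψP x hx
  -- lift of `f₁`
  obtain ⟨α₁, hα₁, hα₁e⟩ := hm2.exists_aut hm1.1
  obtain ⟨g₀, hg₀, hg₀1, hg₀2⟩ := mp_of_lifts (hIH α₁ hα₁)
  have hg₀W : ∀ x ∈ normalizerIn T P ⊔ centralizerIn S (normalizerIn T P),
      g₀ x ∈ normalizerIn T P ⊔ centralizerIn S (normalizerIn T P) := by
    intro x hx
    have h1 := mul_mem hx (hNm (hg₀2 x hx))
    rwa [mul_inv_cancel_left] at h1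
  obtain ⟨m', hm'1, hm'2, hm'3⟩ := H758.exists_iter_pp (p := p) hg₀ hg₀W
  obtain ⟨f, hfdef⟩ : ∃ f, f = g₀^[m'] := ⟨_, rfl⟩
  rw [← hfdef] at hm'1 hm'2 hm'3
  have hfN : ∀ x ∈ normalizerIn T P, f x = f₁ x := fun x hx =>
    hm'3 _ f₁ hNm hm1 (fun y hy => by rw [hg₀1 y hy, hα₁e y hy]) x hx
  have hft : ∀ x ∈ normalizerIn T P ⊔ centralizerIn S (normalizerIn T P),
      x⁻¹ * f x ∈ normalizerIn T P := by
    intro x hx
    rw [hfdef]
    exact H758.iter_triv hg₀W hg₀2 m' x hx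
  have hfP : ∀ x ∈ P, f x ∈ P := fun x hx => by
    rw [hfN x (hPN hx), hf₁P x hx]
    exact H770.ac_mem α hx
  have hfE : Mp E (normalizerIn T P) f := hm2.congr hfN
  have hcond := fun c hc => conj_cond (c := c) hS hE hPn hNc hPc hm'2 hfE
    (fun x hx => by rw [hfN x hx]; exact hm1.1 x hx) hfP (fun x hx => hft x (hCm hx)) hc
  -- extension of `f` to `C_S(P)`
  have hWc : F.IsCentric (normalizerIn T P ⊔ centralizerIn S (normalizerIn T P)) :=
    H770.isCentric_sup_centralizer hNc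
  have hWr := H802.isReceptive_of_isFullyCentralized hS hF
    (H793.isFullyCentralized_of_isCentric hWc)
  have hImW := H770.Mp.im_of_maps hm'2 hm'1.1
  obtain ⟨M, L, hL, hWM, hLe, hLM⟩ := H753.mp_extend hWr hm'2 hImW
  have hCM : centralizerIn S P ≤ M := by
    intro c hc
    obtain ⟨t, ht, htC, s, hs, h1⟩ := hcond c hc
    have hcN : c ∈ Subgroup.normalizer ((normalizerIn T P : Subgroup Ω) : Set Ω) :=
      mem_normalizer_normalizerIn (mem_normalizer_of_stronglyClosed hT hc.1)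
        (Subgroup.centralizer_le_normalizer _ hc.2)
    refine hLM c hc.1 ?_ ⟨t * s * c, S.mul_mem (S.mul_mem (hPS ht) hs.1) hc.1, h1⟩
    exact H802.mem_normalizer_of_conj_mem hWS fun x hx => conj_mem_sup_centralizerIn hc.1 hcN hx
  -- the values on `C_S(P)`
  have hCNP : centralizerIn S (normalizerIn T P) ≤ centralizerIn S P := centralizerIn_mono hPN
  have hval : ∀ c ∈ centralizerIn S P, c⁻¹ * L c ∈ P ⊔ centralizerIn S (normalizerIn T P) := by
    intro c hc
    obtain ⟨t, ht, htC, s, hs, h1⟩ := hcond c hc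
    have hcN : c ∈ Subgroup.normalizer ((normalizerIn T P : Subgroup Ω) : Set Ω) :=
      mem_normalizer_normalizerIn (mem_normalizer_of_stronglyClosed hT hc.1)
        (Subgroup.centralizer_le_normalizer _ hc.2)
    have hcM := hCM hc
    -- `d = (t s c)⁻¹ L(c)` centralizes `W`
    have hd : (t * s * c)⁻¹ * L c ∈ centralizerIn S (normalizerIn T P) := by
      refine ⟨S.mul_mem (S.inv_mem (S.mul_mem (S.mul_mem (hPS ht) hs.1) hc.1)) (hL.mem hcM),
        Subgroup.mem_centralizer_iff.2 fun y hy => ?_⟩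
      obtain ⟨x, hx, rfl⟩ := (hImW y).1 (hNm hy)
      have h2 := h1 x hx
      have h3 : c * x * c⁻¹ ∈ normalizerIn T P ⊔ centralizerIn S (normalizerIn T P) :=
        conj_mem_sup_centralizerIn hc.1 hcN hx
      rw [← hLe _ h3, hL.mul (mul_mem hcM (hWM hx)) (M.inv_mem hcM), hL.mul hcM (hWM hx),
        hL.inv hcM, hLe x hx] at h2
      calc f x * ((t * s * c)⁻¹ * L c)
          = (t * s * c)⁻¹ * ((t * s * c) * f x * (t * s * c)⁻¹) * L c := by group
        _ = (t * s * c)⁻¹ * (L c * f x * (L c)⁻¹) * L c := by rw [h2]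
        _ = (t * s * c)⁻¹ * L c * f x := by group
    have hts : t * c = c * t := Subgroup.mem_centralizer_iff.1 hc.2 t ht
    have hcs : c⁻¹ * s * c ∈ centralizerIn S (normalizerIn T P) := by
      have := conj_mem_centralizerIn (S.inv_mem hc.1) (inv_mem hcN) hs
      rwa [inv_inv] at this
    have h4 : c⁻¹ * L c = t * ((c⁻¹ * s * c) * ((t * s * c)⁻¹ * L c)) := by
      have h5 : c⁻¹ * t = t * c⁻¹ := by
        calc c⁻¹ * t = c⁻¹ * (t * c) * c⁻¹ := by group
          _ = c⁻¹ * (c * t) * c⁻¹ := by rw [hts]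
          _ = t * c⁻¹ := by group
      calc c⁻¹ * L c = (c⁻¹ * t) * s * c * ((t * s * c)⁻¹ * L c) := by group
        _ = (t * c⁻¹) * s * c * ((t * s * c)⁻¹ * L c) := by rw [h5]
        _ = _ := by group
    rw [h4]
    exact mul_mem ((le_sup_left : P ≤ _) ht)
      ((le_sup_right : centralizerIn S (normalizerIn T P) ≤ _) (mul_mem hcs hd))
  -- restriction to `U = P C_S(P)`
  have hPU : P ≤ P ⊔ centralizerIn S P := le_sup_left
  have hCU : centralizerIn S P ≤ P ⊔ centralizerIn S P := le_sup_right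
  have hUS : P ⊔ centralizerIn S P ≤ S := sup_le hPS inf_le_left
  have hUM : P ⊔ centralizerIn S P ≤ M := sup_le ((hPN.trans hNm).trans hWM) hCM
  have hfinU : Finite ↥(P ⊔ centralizerIn S P) := H802.finite_of_le hUS
  have hP'U : P ⊔ centralizerIn S (normalizerIn T P) ≤ P ⊔ centralizerIn S P :=
    sup_le_sup_left hCNP P
  have hP'W : P ⊔ centralizerIn S (normalizerIn T P) ≤
      normalizerIn T P ⊔ centralizerIn S (normalizerIn T P) := sup_le_sup_right hPN _
  have hLU : Mp F (P ⊔ centralizerIn S P) L := hL.res hUM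
  have hLUm : ∀ x ∈ P ⊔ centralizerIn S P, L x ∈ P ⊔ centralizerIn S P := by
    refine H754.mp_sup_mem hLU (fun x hx => hPU ?_) (fun x hx => ?_)
    · rw [hLe x (hNm (hPN hx))]
      exact hfP x hx
    · have h1 := mul_mem (hCU hx) (hP'U (hval x hx))
      rwa [mul_inv_cancel_left] at h1
  obtain ⟨n, hn1, hn2, hn3⟩ := H758.exists_iter_pp (p := p) hLU hLUm
  obtain ⟨G, hGdef⟩ : ∃ G, G = L^[n] := ⟨_, rfl⟩
  rw [← hGdef] at hn1 hn2 hn3
  -- `f` on `P C_S(N)`
  have hfC : ∀ x ∈ centralizerIn S (normalizerIn T P), x⁻¹ * f x ∈ P := by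
    intro x hx
    have h1 := hft x (hCm hx)
    have hImN : H770.Im f (normalizerIn T P) (normalizerIn T P) :=
      H770.Mp.im_of_maps (hm'2.res hNm) (fun x hx => by rw [hfN x hx]; exact hm1.1 x hx)
    have h2 : f x ∈ Subgroup.centralizer ((normalizerIn T P : Subgroup Ω) : Set Ω) :=
      H770.Mp.mem_centralizer hm'2 hNm hImN (hCm hx) hx.2
    have h3 : x⁻¹ * f x ∈ Subgroup.centralizer ((normalizerIn T P : Subgroup Ω) : Set Ω) :=
      mul_mem (inv_mem hx.2) h2
    exact hTC.self hTS (hNT h1) fun y hy => Subgroup.mem_centralizer_iff.1 h3 y (hPN hy)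
  have hfP' : ∀ x ∈ P ⊔ centralizerIn S (normalizerIn T P),
      f x ∈ P ⊔ centralizerIn S (normalizerIn T P) := by
    refine H754.mp_sup_mem (hm'2.res hP'W) (fun x hx => (le_sup_left : P ≤ _) (hfP x hx))
      (fun x hx => ?_)
    have h1 := mul_mem ((le_sup_right : centralizerIn S (normalizerIn T P) ≤ P ⊔ _) hx)
      ((le_sup_left : P ≤ P ⊔ centralizerIn S (normalizerIn T P)) (hfC x hx))
    rwa [mul_inv_cancel_left] at h1
  have hfpp : H758.PP p (P ⊔ centralizerIn S (normalizerIn T P)) f := hm'1.res hP'W hfP'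
  have hGf : ∀ x ∈ P ⊔ centralizerIn S (normalizerIn T P), G x = f x := fun x hx =>
    hn3 _ f hP'U hfpp (fun y hy => hLe y (hP'W hy)) x hx
  have hGP : ∀ x ∈ P, G x ∈ P := fun x hx => by
    rw [hGf x ((le_sup_left : P ≤ _) hx)]
    exact hfP x hx
  have hPnU : ∀ w ∈ P ⊔ centralizerIn S P, ∀ x ∈ P, w * x * w⁻¹ ∈ P := by
    intro w hw x hx
    have h1 : P ⊔ centralizerIn S P ≤ Subgroup.normalizer (P : Set Ω) :=
      sup_le Subgroup.le_normalizer (inf_le_right.trans (Subgroup.centralizer_le_normalizer _))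
    exact (Subgroup.mem_normalizer_iff.1 (h1 hw) x).1 hx
  -- `f` moves the elements of `P C_S(N)` modulo `P`
  have hfPm : ∀ x ∈ P ⊔ centralizerIn S (normalizerIn T P), x⁻¹ * f x ∈ P := by
    intro x hx
    have hCn : centralizerIn S (normalizerIn T P) ≤ Subgroup.normalizer (P : Set Ω) :=
      hCNP.trans (inf_le_right.trans (Subgroup.centralizer_le_normalizer _))
    obtain ⟨c, hc, u, hu, rfl⟩ := (H759.mem_sup_of_normalizes hCn).1
      (show x ∈ centralizerIn S (normalizerIn T P) ⊔ P by rw [sup_comm]; exact hx)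
    rw [(hm'2.res hP'W).mul ((le_sup_right : _ ≤ P ⊔ _) hc) ((le_sup_left : P ≤ _) hu)]
    have h1 : (c * u)⁻¹ * (f c * f u) = u⁻¹ * (c⁻¹ * f c) * f u := by group
    rw [h1]
    exact mul_mem (mul_mem (inv_mem hu) (hfC c hc)) (hfP u hu)
  have hGt : ∀ c ∈ centralizerIn S P, c⁻¹ * G c ∈ P := by
    intro c hc
    have hm : c⁻¹ * G c ∈ P ⊔ centralizerIn S (normalizerIn T P) := by
      rw [hGdef]
      -- iterates
      have hmap : ∀ j : ℕ, ∀ x ∈ P ⊔ centralizerIn S P,
          x⁻¹ * L^[j] x ∈ P ⊔ centralizerIn S (normalizerIn T P) := by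
        have hbase : ∀ x ∈ P ⊔ centralizerIn S P,
            x⁻¹ * L x ∈ P ⊔ centralizerIn S (normalizerIn T P) := by
          intro x hx
          have hCn : centralizerIn S P ≤ Subgroup.normalizer (P : Set Ω) :=
            inf_le_right.trans (Subgroup.centralizer_le_normalizer _)
          obtain ⟨d, hd, u, hu, rfl⟩ := (H759.mem_sup_of_normalizes hCn).1
            (show x ∈ centralizerIn S P ⊔ P by rw [sup_comm]; exact hx)
          rw [hLU.mul (hCU hd) (hPU hu)]
          have h1 : (d * u)⁻¹ * (L d * L u) = u⁻¹ * (d⁻¹ * L d) * L u := by group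
          rw [h1]
          refine mul_mem (mul_mem (inv_mem ((le_sup_left : P ≤ _) hu)) (hval d hd))
            ((le_sup_left : P ≤ _) ?_)
          rw [hLe u (hNm (hPN hu))]
          exact hfP u hu
        intro j
        exact H758.iter_triv hLUm hbase j
      exact hmap n c (hCU hc)
    refine H758.cop_mem (hS.to_le hUS) hn2 hn1 hPnU hGP (hCU hc) ?_
    rw [hGf _ hm]
    exact hfPm _ hm
  refine lifts_of_mp hn2 (fun x hx => ?_) hGt
  rw [hGf x ((le_sup_left : P ≤ _) hx), hfN x (hPN hx), hf₁P x hx, H770.ac_apply α hx]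

theorem isPGroup_zpowers {G : Type*} [Group G] {c : G} {k : ℕ} (h : c ^ p ^ k = 1) :
    IsPGroup p (Subgroup.zpowers c) := by
  rintro ⟨y, n, rfl⟩
  refine ⟨k, Subtype.ext ?_⟩
  show (c ^ n) ^ p ^ k = 1
  rw [← zpow_natCast, ← zpow_mul, mul_comm, zpow_mul, zpow_natCast, h, one_zpow]

/-- Elements of `p`-power order normalizing a Sylow subgroup lie in it. -/
theorem mem_sylow_of_normalizes {G : Type*} [Group G] (R : Sylow p G) {c : G} {k : ℕ}
    (h : c ^ p ^ k = 1) (hc : c ∈ Subgroup.normalizer ((R : Subgroup G) : Set G)) :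
    c ∈ (R : Subgroup G) := by
  have h1 := (isPGroup_zpowers (p := p) h).inf_normalizer_sylow R
  have h2 : c ∈ Subgroup.zpowers c ⊓ Subgroup.normalizer ((R : Subgroup G) : Set G) :=
    ⟨Subgroup.mem_zpowers c, hc⟩
  have h3 : c ∈ Subgroup.zpowers c ⊓ (R : Subgroup G) := h1 ▸ h2
  exact h3.2

/-- All of `Aut_E(P)` lifts, when this holds for `N_T(P)`. -/
theorem lifts_core [Finite S] [Fact p.Prime] (hS : IsPGroup p S)
    (hE : E.IsNormalIn F p) {P : Subgroup Ω} (hP : F.IsFullyNormalized P)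
    (hNn : F.IsFullyNormalized (normalizerIn T P)) (hPc : E.IsCentric P)
    (hIH : ∀ α ∈ E.autGroup (normalizerIn T P), H792.Lifts F (normalizerIn T P) α) :
    ∀ α ∈ E.autGroup P, H792.Lifts F P α := by
  have hF : F.IsSaturated p := hE.1.2.1
  have hEs : E.IsSaturated p := hE.1.1
  have hinv : E.IsInvariantIn F := hE.1.2.2
  have hT : F.StronglyClosed T := hinv.2.1
  have hTS : T ≤ S := hT.1
  have hfinT : Finite T := H802.finite_of_le hTS
  have hTp : IsPGroup p T := hS.to_le hTS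
  have hPT : P ≤ T := hPc.1
  have hPS : P ≤ S := hP.1
  have hfinP : Finite P := H802.finite_of_le hPS
  have hPE : E.IsFullyNormalized P := H792.isFullyNormalized_of_invariant hS hF hinv.1 hT hPT hP
  have hPEa := H802.isFullyAutomized_of_isFullyNormalized hTp hEs hPE
  obtain ⟨R, hR⟩ := hPEa.2
  have hfinA : Finite (E.autGroup P) := by
    have := H758.finite_mulAut P
    infer_instance
  let L : Subgroup (E.autGroup P) :=
    { carrier := {a | H792.Lifts F P (a : MulAut P)}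
      one_mem' := H792.Lifts.one hPS
      mul_mem' := fun {a b} ha hb => H792.Lifts.mul ha hb
      inv_mem' := fun {a} ha => H792.Lifts.inv ha }
  have hL : L.Normal := by
    refine ⟨fun a ha g => ?_⟩
    have h1 : H792.Lifts F P (a : MulAut P) := ha
    have hgF : (g : MulAut P) ∈ F.autGroup P := by
      rw [H802.mem_autGroup_iff F hPS]
      exact hinv.1 P ((H802.mem_autGroup_iff E hPT _).1 g.2)
    have hgm := (H802.mem_autGroup_iff F hPS _).1 hgF
    obtain ⟨α', h2, h3⟩ := (h1.liftable hS hF hP) P _ hgm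
      (H802.range_eq_of_mapsTo hgm (fun x => ((g : MulAut P) x).2)) hP
    have h4 : α' = (g : MulAut P) * a * (g : MulAut P)⁻¹ := by
      ext y
      have h5 := h2 ((g : MulAut P)⁻¹ y) (by
        show (((g : MulAut P) ((g : MulAut P)⁻¹ y) : P) : Ω) ∈ P
        exact Subtype.coe_prop _)
      have h6 : (⟨(P.subtype.comp (g : MulAut P).toMonoidHom) ((g : MulAut P)⁻¹ y), by
        show (((g : MulAut P) ((g : MulAut P)⁻¹ y) : P) : Ω) ∈ P
        exact Subtype.coe_prop _⟩ : P) = y := by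
        apply Subtype.ext
        show (((g : MulAut P) ((g : MulAut P)⁻¹ y) : P) : Ω) = y
        rw [MulAut.apply_inv_self]
      rw [h6] at h5
      exact h5
    show H792.Lifts F P ((g * a * g⁻¹ : E.autGroup P) : MulAut P)
    have h7 : ((g * a * g⁻¹ : E.autGroup P) : MulAut P) = α' := h4.symm
    rw [h7]
    exact h3
  have hRL : (R : Subgroup (E.autGroup P)) ≤ L := by
    intro a ha
    rw [hR] at ha
    exact H792.lifts_of_mem_autInducedBy hT hPc ha
  have hLtop : L = ⊤ := by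
    refine H792.gen_top_of_normal R L hRL L (fun a ha _ => ha) hRL (fun a ha => ?_)
    obtain ⟨m, k, hm, hk⟩ := H758.exists_pparts p a
    have hb := pow_mem ha m
    have hc := mul_mem ha (inv_mem hb)
    have hcR := mem_sylow_of_normalizes R hk hc
    have hbL : a ^ m ∈ L := by
      refine lifts_core2 hS hE hP hNn hPc hIH (a ^ m).2 ?_ ?_
      · rwa [Subgroup.orderOf_coe]
      · intro δ hδ
        have hδE : δ ∈ E.autGroup P := H802.autInducedBy_le_autGroup E hPT hδ
        have h1 : (⟨δ, hδE⟩ : E.autGroup P) ∈ (R : Subgroup (E.autGroup P)) := by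
          rw [hR]; exact hδ
        have h2 := (Subgroup.mem_normalizer_iff.1 hb ⟨δ, hδE⟩).1 h1
        rw [hR] at h2
        exact h2
    have h1 : a = a * (a ^ m)⁻¹ * a ^ m := by group
    rw [h1]
    exact mul_mem (hRL hcR) hbL
  intro α hα
  have h1 : (⟨α, hα⟩ : E.autGroup P) ∈ L := by rw [hLtop]; trivial
  exact h1

/-- Conjugation to a fully normalized subgroup `U'` of a subgroup `U` with `N_S(P) ≤ N_S(U)`, `P` fully
normalized: the image of `P` is again fully normalized. -/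
theorem conj_step [Finite S] [Fact p.Prime] (hS : IsPGroup p S) (hF : F.IsSaturated p)
    {P U : Subgroup Ω} (hP : F.IsFullyNormalized P) (hUS : U ≤ S)
    (hPU : normalizerIn S P ≤ normalizerIn S U) :
    ∃ (f : Ω → Ω) (U' P' : Subgroup Ω), Mp F (normalizerIn S U) f ∧ H770.Im f U U' ∧
      F.IsFullyNormalized U' ∧ H770.Im f P P' ∧ F.IsFullyNormalized P' ∧
      H770.Im f (normalizerIn S P) (normalizerIn S P') := by
  obtain ⟨U', hUU', hU'⟩ := H802.exists_isFullyNormalized hS hF hUS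
  obtain ⟨f₀, hf₀, hI₀⟩ := H770.exists_mp_of_isConj hUU'
  obtain ⟨f, hf, hI⟩ := H770.mp_normalizer hS hF hU' hf₀ hI₀
  have hPN : P ≤ normalizerIn S P := H802.le_normalizerIn hP.1
  obtain ⟨P', hP', hP'S, hP'c⟩ := H770.Mp.exists_im hf (hPN.trans hPU)
  have hconj : F.IsConj P P' := H770.Mp.isConj (hf.res (hPN.trans hPU)) hP'
  have hmap : ∀ x ∈ normalizerIn S P, f x ∈ normalizerIn S P' := fun x hx =>
    ⟨hf.mem (hPU hx), H770.Mp.mem_normalizer hf (hPN.trans hPU) hP' (hPU hx) hx.2⟩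
  have hfin : Finite (normalizerIn S P') := H802.finite_of_le inf_le_left
  obtain ⟨N', hN', hN'S, hN'c⟩ := H770.Mp.exists_im hf hPU
  have hN'le : N' ≤ normalizerIn S P' := by
    intro y hy
    obtain ⟨x, hx, rfl⟩ := (hN' y).1 hy
    exact hmap x hx
  have hN'eq : N' = normalizerIn S P' :=
    Subgroup.eq_of_le_of_card_ge hN'le (by rw [hN'c]; exact hP.2 P' hconj)
  refine ⟨f, U', P', hf, hI, hU', hP', ⟨hP'S, fun Q hQ => ?_⟩, hN'eq ▸ hN'⟩
  rw [← hN'eq, hN'c]
  exact hP.2 Q (H802.isConj_trans hconj hQ)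

theorem im_normalizerIn (hT : F.StronglyClosed T) {W P P' : Subgroup Ω} {f : Ω → Ω}
    (hf : Mp F W f) (hW : normalizerIn S P ≤ W)
    (h : H770.Im f (normalizerIn S P) (normalizerIn S P')) :
    H770.Im f (normalizerIn T P) (normalizerIn T P') := by
  intro y
  constructor
  · intro hy
    have hyS : y ∈ normalizerIn S P' := ⟨hT.1 hy.1, hy.2⟩
    obtain ⟨x, hx, rfl⟩ := (h y).1 hyS
    exact ⟨x, ⟨mp_mem_of_stronglyClosed' hT hf (hW hx) hy.1, hx.2⟩, rfl⟩
  · rintro ⟨x, hx, rfl⟩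
    have hxS : x ∈ normalizerIn S P := ⟨hT.1 hx.1, hx.2⟩
    exact ⟨mp_mem_of_stronglyClosed hT hf (hW hxS) hx.1, (h.apply hxS).2⟩

theorem normalizerIn_le_normalizerIn_normalizerIn [Finite S] (hT : F.StronglyClosed T)
    (P : Subgroup Ω) : normalizerIn S P ≤ normalizerIn S (normalizerIn T P) := fun _ hx =>
  ⟨hx.1, mem_normalizer_normalizerIn (mem_normalizer_of_stronglyClosed hT hx.1) hx.2⟩

/-- Every subgroup `P` of `T` has a conjugate `P'`, fully normalized, with `N_T(P')` fully normalized. -/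
theorem exists_good_conj [Finite S] [Fact p.Prime] (hS : IsPGroup p S) (hF : F.IsSaturated p)
    (hT : F.StronglyClosed T) {P : Subgroup Ω} (hPT : P ≤ T) :
    ∃ (f : Ω → Ω) (P' : Subgroup Ω), Mp F P f ∧ H770.Im f P P' ∧ F.IsFullyNormalized P' ∧
      F.IsFullyNormalized (normalizerIn T P') := by
  have hPS : P ≤ S := hPT.trans hT.1
  obtain ⟨P₁, hPP₁, hP₁⟩ := H802.exists_isFullyNormalized hS hF hPS
  obtain ⟨f₁, hf₁, hI₁⟩ := H770.exists_mp_of_isConj hPP₁
  have hP₁T : P₁ ≤ T := by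
    intro y hy
    obtain ⟨x, hx, rfl⟩ := (hI₁ y).1 hy
    exact mp_mem_of_stronglyClosed hT hf₁ hx (hPT hx)
  have hle := normalizerIn_le_normalizerIn_normalizerIn hT P₁
  obtain ⟨f₂, U', P₂, hf₂, hU', hU'n, hP₂, hP₂n, hN⟩ := conj_step hS hF hP₁
    ((inf_le_left : normalizerIn T P₁ ≤ T).trans hT.1) hle
  have hNT := im_normalizerIn hT hf₂ hle hN
  have hU'eq : U' = normalizerIn T P₂ := by
    ext y
    rw [hU' y, hNT y]
    exact Iff.rfl
  have hP₁N : P₁ ≤ normalizerIn S P₁ := H802.le_normalizerIn hP₁.1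
  refine ⟨fun x => f₂ (f₁ x), P₂, hf₁.comp (hf₂.res (hP₁N.trans hle)) (fun x hx => hI₁.apply hx),
    hI₁.comp hP₂, hP₂n, hU'eq ▸ hU'n⟩

theorem lifts_of_liftable {P : Subgroup Ω} (hP : F.IsFullyNormalized P) {α : MulAut P}
    (h : H792.Liftable F P α) : H792.Lifts F P α := by
  obtain ⟨α', h1, h2⟩ := h P P.subtype (H802.subtype_mem F hP.1) (Subgroup.range_subtype P) hP
  have h3 : α' = α := by
    ext x
    exact h1 x x.2
  rwa [h3] at h2

/-- **Liftability.** For `E` normal in `F`, all automorphisms in `E` of `E`-centric subgroups are liftable. -/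
theorem liftable_all [Finite S] [Fact p.Prime] (hS : IsPGroup p S) (hE : E.IsNormalIn F p) :
    ∀ P : Subgroup Ω, E.IsCentric P → ∀ α ∈ E.autGroup P, H792.Liftable F P α := by
  have hF : F.IsSaturated p := hE.1.2.1
  have hinv : E.IsInvariantIn F := hE.1.2.2
  have hT : F.StronglyClosed T := hinv.2.1
  have hTS : T ≤ S := hT.1
  have hfinT : Finite T := H802.finite_of_le hTS
  have hTp : IsPGroup p T := hS.to_le hTS
  have key := H770.down_ind (S := T)
    (fun P => E.IsCentric P → ∀ α ∈ E.autGroup P, H792.Liftable F P α) ?_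
  · exact fun P hP => key P hP.1 hP
  intro P hPT IH hPc α hα
  by_cases hPeq : P = T
  · subst hPeq
    exact (H792.lifts_of_isNormalIn hE hα).liftable hS hF
      (H792.stronglyClosed_isFullyNormalized hS hF hT)
  obtain ⟨f, P', hf, hI, hP'n, hN'n⟩ := exists_good_conj hS hF hT hPT
  obtain ⟨φ, hφ, he⟩ := id hf
  have hr : φ.range = P' := by
    ext y
    rw [hI y]
    constructor
    · rintro ⟨x, rfl⟩
      exact ⟨x, x.2, (he x x.2).symm⟩
    · rintro ⟨x, hx, rfl⟩
      exact ⟨⟨x, hx⟩, he x hx⟩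
  obtain ⟨α', hα', -, hα'e⟩ := H792.exists_congr_of_invariant hinv hPT hφ hr hα
  have hP'c : E.IsCentric P' := H792.isCentric_map_of_invariant hinv hPc hφ hr
  have hP'T : P' ≤ T := hP'c.1
  have hcard : Nat.card P' = Nat.card P := H770.Mp.im_card hf hI
  have hfinP : Finite P := H802.finite_of_le (hPT.trans hTS)
  have hP'ne : P' ≠ T := by
    intro h
    apply hPeq
    refine Subgroup.eq_of_le_of_card_ge hPT ?_
    rw [← hcard, h]
  have hNT : normalizerIn T P' ≤ T := inf_le_left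
  have hNc : E.IsCentric (normalizerIn T P') :=
    H802.isCentric_of_le hP'c (H802.le_normalizerIn hP'T) hNT
  have h1 : H792.Lifts F P' α' := by
    refine lifts_core hS hE hP'n hN'n hP'c (fun β hβ => lifts_of_liftable hN'n ?_) α' hα'
    refine IH _ hNT ?_ hNc β hβ
    rw [← hcard]
    exact H802.card_lt_card_normalizerIn hTp hP'T hP'ne
  exact (h1.liftable hS hF hP'n).conj hφ hr (fun x hx => hα'e x hx)

end Cfsg.Agent.H769
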