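import Cfsg.Agent.H769.NsC
import Cfsg.Agent.H792.CentFinal

/-!
# Small centralizers of normal subsystems (helper769)

`centralizer_le_odd` : for `p` odd, `C_S(T) ≤ T` if `C_S(E) ≤ T`.
`commutator_le` : `T C_S(T) / T` is abelian if `C_S(E) ≤ T`.
-/

set_option autoImplicit false

namespace Cfsg.Agent.H769

open Cfsg Cfsg.FusionSystem Cfsg.Agent.H752 Cfsg.Agent.PLocal.ThompsonJA

section

universe u

variable {Ω : Type u} [Group Ω] {S T : Subgroup Ω} {p : ℕ} {F : FusionSystem S} {E : FusionSystem T}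

/-- `J(T)` is fully normalized in `F`. -/
theorem thompson_isFullyNormalized [Finite S] (hT : F.StronglyClosed T) :
    F.IsFullyNormalized (thompsonSubgroupAOf T) := by
  have hJS : thompsonSubgroupAOf T ≤ S := (thompsonSubgroupAOf_le T).trans hT.1
  refine ⟨hJS, fun R hR => ?_⟩
  have h1 : normalizerIn S (thompsonSubgroupAOf T) = S := by
    refine inf_eq_left.2 fun s hs => ?_
    exact normalizer_le_normalizer_thompsonSubgroupAOf T (mem_normalizer_of_stronglyClosed hT hs)
  rw [h1]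
  exact Subgroup.card_le_of_le inf_le_left

/-- `J(T)` is centric. -/
theorem thompson_isCentric [Finite T] (E : FusionSystem T) :
    E.IsCentric (thompsonSubgroupAOf T) := by
  refine ⟨thompsonSubgroupAOf_le T, fun R hR => ?_⟩
  obtain ⟨f, hf, hfI⟩ := H770.exists_mp_of_isConj hR
  have hRT : R ≤ T := H770.Mp.im_le hf hfI
  have hfJ : Finite (thompsonSubgroupAOf T) := H802.finite_of_le (thompsonSubgroupAOf_le T)
  have hv : vW (Nat.card T) R = vW (Nat.card T) T := by
    rw [vW_of_im hf hfI, vW_thompson]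
  have h1 := thompson_eq_of_vW_eq hRT le_rfl hv
  have h2 : R = thompsonSubgroupAOf T := by
    have hfR : Finite R := H802.finite_of_le hRT
    symm
    refine Subgroup.eq_of_le_of_card_ge ?_ ?_
    · rw [← h1]
      exact thompsonSubgroupAOf_le R
    · rw [H770.Mp.im_card hf hfI]
  rw [h2]
  exact inf_centralizer_thompson_le T

/-- **All centric subgroups are good** if the larger ones are. -/
theorem gd_two [Finite S] [Fact p.Prime] (hp : p ≠ 2) (hS : IsPGroup p S) (hE : E.IsNormalIn F p)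
    {Q : Subgroup Ω} (hQc : E.IsCentric Q) {N : ℕ} (hN : Nat.card T ≤ N)
    (big : ∀ (R : Subgroup Ω) (f : Ω → Ω), Mp E R f → wW N Q < wW N R → ∀ x, XJ F E x → Fx F x R f) :
    Gd F E Q := by
  have hF : F.IsSaturated p := hE.1.2.1
  have hinv : E.IsInvariantIn F := hE.1.2.2
  have hT : F.StronglyClosed T := hinv.2.1
  have hTS : T ≤ S := hT.1
  have hfinT : Finite T := H802.finite_of_le hTS
  have hTp : IsPGroup p T := hS.to_le hTS
  have hQT : Q ≤ T := hQc.1
  have hQS : Q ≤ S := hQT.trans hTS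
  have hfinQ : Finite Q := H802.finite_of_le hQS
  by_cases hQeq : Q = T
  · rw [hQeq] at hQc big ⊢
    exact gd_local hp hS hE hQc (H792.stronglyClosed_isFullyNormalized hS hF hT)
      (thompson_isFullyNormalized hT) hN big
  · obtain ⟨P₁, hQP, hP₁⟩ := H802.exists_isFullyNormalized hS hF hQS
    obtain ⟨f₁, hf₁, hI₁⟩ := H770.exists_mp_of_isConj hQP
    obtain ⟨k₁, hk₁, hk₁I⟩ := H770.mp_normalizer hS hF hP₁ hf₁ hI₁
    have hQN : Q ≤ normalizerIn S Q := H802.le_normalizerIn hQS
    have hP₁N : P₁ ≤ normalizerIn S P₁ := H802.le_normalizerIn hP₁.1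
    have hfinP₁ : Finite P₁ := H802.finite_of_le hP₁.1
    have hkN : ∀ y ∈ normalizerIn S Q, k₁ y ∈ normalizerIn S P₁ := fun y hy =>
      ⟨hk₁.mem hy, H770.Mp.mem_normalizer hk₁ hQN hk₁I hy hy.2⟩
    have hNU : normalizerIn S P₁ ≤ normalizerIn S (thompsonSubgroupAOf P₁) :=
      inf_le_inf_left S (normalizer_le_normalizer_thompsonSubgroupAOf P₁)
    obtain ⟨f, U', P, hf, hfU, hU', hfP, hP, -⟩ :=
      conj_step hS hF hP₁ ((thompsonSubgroupAOf_le P₁).trans hP₁.1) hNU
    have hJP : thompsonSubgroupAOf P = U' := by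
      have h1 := im_thompson (hf.res (hP₁N.trans hNU)) hfP
      ext y
      rw [h1 y, hfU y]
    have hψ := (hk₁.comp hf fun y hy => hNU (hkN y hy))
    have hψI : H770.Im (fun y => f (k₁ y)) Q P := hk₁I.comp hfP
    have hPc : E.IsCentric P := by
      obtain ⟨φ, hφ, hφr⟩ := H770.Mp.isConj (hψ.res hQN) hψI
      exact H792.isCentric_map_of_invariant hinv hQc hφ hφr
    have hwP : wW N P = wW N Q := wW_of_im (hψ.res hQN) hψI
    have hGP : Gd F E P :=
      gd_local hp hS hE hPc hP (by rw [hJP]; exact hU') hN (by rw [hwP]; exact big)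
    have hlt : wW N Q < wW N (normalizerIn T Q) := by
      have h1 : Q < normalizerIn T Q := by
        refine lt_of_le_of_ne (H802.le_normalizerIn hQT) fun h => ?_
        have := H802.card_lt_card_normalizerIn hTp hQT hQeq
        rw [← h] at this
        exact lt_irrefl _ this
      have hfN : Finite (normalizerIn T Q) := H802.finite_of_le inf_le_left
      exact wW_lt h1 ((Subgroup.card_le_of_le inf_le_left).trans hN)
    exact fx_transport hE (fun x hx => hx.1) (fun a ha x hx => xj_map hE ha hx) hQT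
      (hψ.res (inf_le_inf_right _ hTS)) hψI (fun g hg x hx => big _ g hg hlt x hx) hGP

/-- **Elements of `C_S(T)` fixed by `Aut_E(J(T))` centralize `E`** (`p` odd). -/
theorem fx_all [Finite S] [Fact p.Prime] (hp : p ≠ 2) (hS : IsPGroup p S) (hE : E.IsNormalIn F p) :
    ∀ (P : Subgroup Ω) (f : Ω → Ω), Mp E P f → ∀ x, XJ F E x → Fx F x P f := by
  have hEs : E.IsSaturated p := hE.1.1
  have hTS : T ≤ S := hE.1.2.2.2.1.1
  have hfinT : Finite T := H802.finite_of_le hTS
  have hTp : IsPGroup p T := hS.to_le hTS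
  refine fx_induction hS hE (XJ F E) (wW (Nat.card T)) (fun P Q hPQ hQT => ?_)
    (fun P P' f hf hI => wW_of_im hf hI) (fun Q hQn big => ?_)
  · have hfQ : Finite Q := H802.finite_of_le hQT
    exact wW_lt hPQ (Subgroup.card_le_of_le hQT)
  · by_cases hQc : E.IsCentric Q
    · exact gd_two hp hS hE hQc le_rfl big
    · intro α hα x hx
      have hQr := H802.isReceptive_of_isFullyNormalized hTp hEs hQn
      obtain ⟨R, hQR, hcard, ψ, hψ, hψe⟩ := H802.exists_extension_of_not_centric hQr hQc hα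
      have hRT : R ≤ T := H802.hom_le hψ
      have hfR : Finite R := H802.finite_of_le hRT
      have hlt : Q < R := lt_of_le_of_ne hQR fun h => by
        rw [h] at hcard
        exact lt_irrefl _ hcard
      have h1 := big R (ex ψ) (mp_ex hψ) (wW_lt hlt (Subgroup.card_le_of_le hRT)) x hx
      refine (h1.res hQR).congr fun y hy => ?_
      rw [H770.ac_apply _ hy, ex_apply _ (hQR hy), hψe y hy (hQR hy)]

/-- **The odd case.** -/
theorem centralizer_le_odd [Finite S] [Fact p.Prime] (hp : p ≠ 2) (hS : IsPGroup p S)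
    (hE : E.IsNormalIn F p)
    (hCE : ∀ Y : Subgroup Ω, Y ≤ centralizerIn S T →
      (∀ C : FusionSystem (centralizerIn S Y), F.IsCentralizerSystem Y C → E.IsSubsystemOf C) →
      Y ≤ T) : centralizerIn S T ≤ T := by
  have hinv : E.IsInvariantIn F := hE.1.2.2
  have hT : F.StronglyClosed T := hinv.2.1
  have hTS : T ≤ S := hT.1
  have hfinT : Finite T := H802.finite_of_le hTS
  intro x hx
  obtain ⟨J, hJ⟩ : ∃ J, J = thompsonSubgroupAOf T := ⟨_, rfl⟩
  have hJT : J ≤ T := by rw [hJ]; exact thompsonSubgroupAOf_le T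
  have hJn : F.IsFullyNormalized J := by rw [hJ]; exact thompson_isFullyNormalized hT
  have hJc : E.IsCentric J := by rw [hJ]; exact thompson_isCentric E
  have hNT : normalizerIn T J = T := by
    refine inf_eq_left.2 ?_
    rw [hJ]
    exact Subgroup.le_normalizer.trans (normalizer_le_normalizer_thompsonSubgroupAOf T)
  obtain ⟨z, hz, hzN, hfix⟩ := exists_fix hS hE hJn hJc (x := x) (by rw [hNT]; exact hx)
  rw [hNT] at hzN
  have hzT : z ∈ T := hJT hz
  have hzC : z ∈ centralizerIn S T :=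
    ⟨hTS hzT, Subgroup.mem_centralizer_iff.2 fun t ht => hzN t ht⟩
  have hxz : x * z ∈ centralizerIn S T := mul_mem hx hzC
  have hXJ : XJ F E (x * z) := by
    refine ⟨hxz, ?_⟩
    rw [← hJ]
    intro α hα
    obtain ⟨g, hg, h1, h2, -⟩ := hfix α hα
    have hxzm : x * z ∈ J ⊔ centralizerIn S J :=
      (le_sup_right : centralizerIn S J ≤ _) (centralizerIn_mono hJT hxz)
    exact ⟨g, hg.res (sup_le le_sup_left (by rw [Subgroup.zpowers_le]; exact hxzm)),
      fun y hy => by rw [h1 y hy, H770.ac_apply _ hy], h2⟩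
  have hce : H753.CE E F (x * z) := ⟨hxz, fun P f hf => fx_all hp hS hE P f hf _ hXJ⟩
  have h1 : Subgroup.zpowers (x * z) ≤ T := by
    refine hCE _ ((Subgroup.zpowers_le).2 hxz) fun C hC P φ hφ => ?_
    rw [hC P]
    exact (H753.ce_iff hinv.1 hxz).1 hce P hφ
  have h2 : x * z ∈ T := h1 (Subgroup.mem_zpowers _)
  have h3 := T.mul_mem h2 (T.inv_mem hzT)
  rwa [mul_inv_cancel_right] at h3

/-- **The abelian quotient.** -/
theorem commutator_le_of_small [Finite S] [Fact p.Prime] (hS : IsPGroup p S)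
    (hE : E.IsNormalIn F p)
    (hCE : ∀ Y : Subgroup Ω, Y ≤ centralizerIn S T →
      (∀ C : FusionSystem (centralizerIn S Y), F.IsCentralizerSystem Y C → E.IsSubsystemOf C) →
      Y ≤ T) : ⁅T ⊔ centralizerIn S T, T ⊔ centralizerIn S T⁆ ≤ T := by
  have hF : F.IsSaturated p := hE.1.2.1
  have hinv : E.IsInvariantIn F := hE.1.2.2
  have hT : F.StronglyClosed T := hinv.2.1
  have hTS : T ≤ S := hT.1
  have hL : H792.centLargest F E p ≤ T := by
    refine hCE _ (H792.centLargest_le F E p) fun C hC P φ hφ => ?_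
    rw [hC P]
    exact H792.hom_subset_centralizerHom_centLargest hS hE P hφ
  -- commutators of elements of `C_S(T)`
  have hcomm : ∀ c ∈ centralizerIn S T, ∀ d ∈ centralizerIn S T, c⁻¹ * (d * c * d⁻¹) ∈ T := by
    intro c hc d hd
    have hφ : conjHom (centralizerIn S T) d ∈ F.centralizerHom T (centralizerIn S T) := by
      refine ⟨F.conj_mem inf_le_left hd.1, le_rfl, fun y => ?_, conjHom _ d,
        F.conj_mem (sup_le inf_le_left hTS) hd.1, fun y => rfl, fun t => ?_⟩
      · exact mul_mem (mul_mem hd y.2) ((centralizerIn S T).inv_mem hd)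
      · show d * (t : Ω) * d⁻¹ = t
        rw [← Subgroup.mem_centralizer_iff.1 hd.2 t t.2]
        group
    exact hL (H792.inv_mul_mem_centLargest hS hF hTS (E := E) hφ ⟨c, hc⟩)
  have hTn : T ≤ Subgroup.normalizer (centralizerIn S T : Set Ω) := by
    intro t ht
    have hfin : Finite (centralizerIn S T) := H802.finite_of_le inf_le_left
    refine H802.mem_normalizer_of_conj_mem (le_refl _) fun c hc => ?_
    have h1 : t * c * t⁻¹ = c := by
      rw [Subgroup.mem_centralizer_iff.1 hc.2 t ht]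
      group
    rw [h1]
    exact hc
  rw [Subgroup.commutator_le]
  intro g hg h hh
  obtain ⟨t, ht, c, hc, rfl⟩ := (H759.mem_sup_of_normalizes hTn).1 hg
  obtain ⟨t', ht', d, hd, rfl⟩ := (H759.mem_sup_of_normalizes hTn).1 hh
  have h1 : c * t' = t' * c := (Subgroup.mem_centralizer_iff.1 hc.2 t' ht').symm
  have h2 : d * t⁻¹ = t⁻¹ * d := (Subgroup.mem_centralizer_iff.1 hd.2 t⁻¹ (T.inv_mem ht)).symm
  have h3 : c * d * c⁻¹ * d⁻¹ ∈ T := by
    have h4 := hcomm c⁻¹ ((centralizerIn S T).inv_mem hc) d hd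
    have h5 : c⁻¹⁻¹ * (d * c⁻¹ * d⁻¹) = c * d * c⁻¹ * d⁻¹ := by group
    rwa [h5] at h4
  have h6 : t * c * (t' * d) * (t * c)⁻¹ * (t' * d)⁻¹ = t * t' * (c * d * c⁻¹ * d⁻¹) * t⁻¹ * t'⁻¹ := by
    have h7 : t * c * (t' * d) * (t * c)⁻¹ * (t' * d)⁻¹ =
        t * (c * t') * d * c⁻¹ * d⁻¹ * (d * t⁻¹) * d⁻¹ * t'⁻¹ := by group
    rw [h7, h1, h2]
    group
  rw [commutatorElement_def, h6]
  exact T.mul_mem (T.mul_mem (T.mul_mem (T.mul_mem ht ht') h3) (T.inv_mem ht)) (T.inv_mem ht')

end

end Cfsg.Agent.H769
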