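import Cfsg.Agent.H769.NsMl

/-!
# The Thompson step (helper769)

`p` odd, `P` `E`-centric and fully normalized in `F`, `x ∈ C_S(T)`. If the automorphisms in `E` of
`Q₁ = P J(N_T(P))` extend to maps of `F` fixing `x`, then so do those of `P`.
-/

set_option autoImplicit false

namespace Cfsg.Agent.H769

open Cfsg Cfsg.FusionSystem Cfsg.Agent.H752 Cfsg.Agent.PLocal.ThompsonJA

universe u

variable {Ω : Type u} [Group Ω] {S T : Subgroup Ω} {p : ℕ} {F : FusionSystem S} {E : FusionSystem T}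

/-- **The Thompson step**: `Q₁ = P J(N_T(P))`, `p` odd. -/
theorem fx_of_thompson [Finite S] [Fact p.Prime] (hp : p ≠ 2) (hS : IsPGroup p S)
    (hE : E.IsNormalIn F p) {P : Subgroup Ω} (hPn : F.IsFullyNormalized P) (hPc : E.IsCentric P)
    {x : Ω} (hx : x ∈ centralizerIn S T)
    (hgood : ∀ f, Mp E (P ⊔ thompsonSubgroupAOf (normalizerIn T P)) f →
      (∀ y ∈ P ⊔ thompsonSubgroupAOf (normalizerIn T P),
        f y ∈ P ⊔ thompsonSubgroupAOf (normalizerIn T P)) →
      Fx F x (P ⊔ thompsonSubgroupAOf (normalizerIn T P)) f) :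
    ∀ α ∈ E.autGroup P, Fx F x P (H770.ac α) := by
  have hF : F.IsSaturated p := hE.1.2.1
  have hEs : E.IsSaturated p := hE.1.1
  have hinv : E.IsInvariantIn F := hE.1.2.2
  have hT : F.StronglyClosed T := hinv.2.1
  have hTS : T ≤ S := hT.1
  have hfinT : Finite T := H802.finite_of_le hTS
  have hTp : IsPGroup p T := hS.to_le hTS
  have hPT : P ≤ T := hPc.1
  have hPS : P ≤ S := hPT.trans hTS
  have hfinP : Finite P := H802.finite_of_le hPS
  have hPE : E.IsFullyNormalized P := H755.isFullyNormalized_sub hS hF hinv.1 hT hPT hPn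
  have hPN : P ≤ normalizerIn T P := H802.le_normalizerIn hPT
  have hNp : IsPGroup p (normalizerIn T P) := hTp.to_le inf_le_left
  have hfinN : Finite (normalizerIn T P) := H802.finite_of_le inf_le_left
  obtain ⟨J, hJ⟩ : ∃ J, J = thompsonSubgroupAOf (normalizerIn T P) := ⟨_, rfl⟩
  obtain ⟨Q₁, hQ₁⟩ : ∃ Q₁, Q₁ = P ⊔ J := ⟨_, rfl⟩
  rw [← hJ, ← hQ₁] at hgood
  have hJN : J ≤ normalizerIn T P := by rw [hJ]; exact thompsonSubgroupAOf_le _
  have hPQ : P ≤ Q₁ := by rw [hQ₁]; exact le_sup_left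
  have hJQ : J ≤ Q₁ := by rw [hQ₁]; exact le_sup_right
  have hQN : Q₁ ≤ normalizerIn T P := by rw [hQ₁]; exact sup_le hPN hJN
  have hfinQ : Finite Q₁ := H802.finite_of_le hQN
  have hNJ : normalizerIn T P ≤ Subgroup.normalizer (J : Set Ω) := by
    rw [hJ]
    exact Subgroup.le_normalizer.trans (normalizer_le_normalizer_thompsonSubgroupAOf _)
  have hQn : normalizerIn T P ≤ Subgroup.normalizer (Q₁ : Set Ω) := by
    intro t ht
    refine H802.mem_normalizer_of_conj_mem (le_refl Q₁) ?_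
    have h1 : Q₁ ≤ Q₁.comap (MulAut.conj t).toMonoidHom := by
      nth_rw 1 [hQ₁]
      refine sup_le (fun y hy => ?_) (fun y hy => ?_)
      · exact hPQ ((Subgroup.mem_normalizer_iff.1 ht.2 y).1 hy)
      · exact hJQ ((Subgroup.mem_normalizer_iff.1 (hNJ ht) y).1 hy)
    intro q hq
    exact h1 hq
  have hxN : x ∈ centralizerIn S (normalizerIn T P) := centralizerIn_mono inf_le_left hx
  have hxP : x ∈ centralizerIn S P := centralizerIn_mono hPT hx
  obtain ⟨z, hz, hzN, hfix₀⟩ := exists_fix hS hE hPn hPc hxN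
  have hxz : x * z ∈ P ⊔ centralizerIn S P :=
    mul_mem ((le_sup_right : centralizerIn S P ≤ _) hxP) ((le_sup_left : P ≤ _) hz)
  have hfix : ∀ α ∈ E.autGroup P, Fx F (x * z) P (H770.ac α) := by
    intro α hα
    obtain ⟨g, hg, h1, h2, -⟩ := hfix₀ α hα
    refine ⟨g, hg.res (sup_le le_sup_left (by rw [Subgroup.zpowers_le]; exact hxz)),
      fun y hy => by rw [h1 y hy, H770.ac_apply _ hy], h2⟩
  have hmid := fixed_of_normalizes hS hE hPn hPc hPQ hQN hQn hxP hz hzN hgood hfix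
  obtain ⟨N, hN⟩ := H802.exists_normalizerSystem E hPT
  have hNs : N.IsSaturated p := H802.normalizerSystem_isSaturated hTp hEs hPE hN
  have hzc : z ∈ N.center := by
    refine (H793.mem_center_iff_odd hp hNp hNs z).2
      ⟨⟨hPN hz, Subgroup.mem_centralizer_iff.2 fun t ht => hzN t ht⟩, ?_⟩
    rw [← hJ]
    intro f hf hfJ hzJ
    obtain ⟨-, -, k, hk, hkf, hkP⟩ := (H770.mp_normalizerSystem_iff hN).1 hf
    have hkP' : ∀ y ∈ P, k y ∈ P := fun y hy => hkP.apply hy
    obtain ⟨α, hα, hkα⟩ := (hk.res le_sup_right).exists_aut hkP'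
    have hkQ : ∀ y ∈ J ⊔ P, k y ∈ Q₁ := by
      refine H754.mp_sup_mem hk (fun y hy => ?_) (fun y hy => ?_)
      · rw [hkf y hy]
        exact hJQ (hfJ y hy)
      · exact hPQ (hkP' y hy)
    have h1 : H770.ac α z = z := by
      refine hmid α hα fun δ hδ => ?_
      obtain ⟨q, hq, hδq⟩ := (H802.mem_autInducedBy_iff _ _ _).1 hδ
      have hqJ : q ∈ J ⊔ P := by rw [sup_comm, ← hQ₁]; exact hq
      refine (H802.mem_autInducedBy_iff _ _ _).2 ⟨k q, hkQ q hqJ, fun y => ?_⟩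
      obtain ⟨u, rfl⟩ : ∃ u, y = α u := ⟨α⁻¹ y, (MulAut.apply_inv_self _ _ _).symm⟩
      have h2 : (α * δ * α⁻¹) (α u) = α (δ u) := by
        show α (δ (α⁻¹ (α u))) = _
        rw [MulAut.inv_apply_self]
      have hu : (u : Ω) ∈ J ⊔ P := (le_sup_right : P ≤ _) u.2
      rw [h2]
      have h3 : ((α (δ u) : P) : Ω) = k ((δ u : P) : Ω) := (hkα _ (δ u).2).symm
      have h4 : ((α u : P) : Ω) = k (u : Ω) := (hkα _ u.2).symm
      rw [h3, h4, hδq, hk.mul (mul_mem hqJ hu) ((J ⊔ P).inv_mem hqJ), hk.mul hqJ hu, hk.inv hqJ]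
    rw [← hkf z hzJ]
    have h2 := hkα z hz
    rw [h2, ← H770.ac_apply _ hz]
    exact h1
  intro α hα
  have h1 : Mp N P (H770.ac α) :=
    (H770.mp_normalizerSystem_iff' hN hPT le_rfl).2
      ⟨H770.mp_ac hPT hα, hPN, fun y hy => H770.ac_mem α hy⟩
  obtain ⟨φ, hφ, hφe⟩ := h1
  have h2 : φ ⟨z, hz⟩ = z := H757.center_apply_eq hφ (x := ⟨z, hz⟩) hzc
  have h3 : H770.ac α z = z := by
    rw [← hφe z hz]
    exact h2
  exact fx_of_fix hz h3 (hfix α hα)

end Cfsg.Agent.H769
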